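import Mathlib
import Groth.Agent.Lib.Helper5.Misc.StalkTensor

set_option autoImplicit false
set_option linter.unusedSectionVars false
set_option linter.unusedVariables false
universe u
open CategoryTheory CategoryTheory.Limits MonoidalCategory Opposite TensorProduct TopologicalSpace
open Groth.Agent.Lib.Helper5.TensorLocal Groth.Agent.Lib.Helper5.Misc.StalkTensor

namespace Groth.Agent.Lib.Helper5.StalkFlat2

variable {X : TopCat.{u}} {R : X.Presheaf CommRingCat.{u}} (P : PMod R) (x : X)

lemma exists_common_nhd : ∀ {l : ℕ} (f : Fin l → R.stalk x) (a : Fin l → St P x),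
    ∃ (U : Opens X) (hU : x ∈ U) (f' : Fin l → R.obj (op U)) (a' : Fin l → P.obj (op U)),
      (∀ i, gr (R := R) x U hU (f' i) = f i) ∧ (∀ i, gm P x U hU (a' i) = a i)
  | 0, f, a => ⟨⊤, trivial, fun i => i.elim0, fun i => i.elim0, fun i => i.elim0, fun i => i.elim0⟩
  | (l + 1), f, a => by
    obtain ⟨U₁, h₁, f₁, a₁, hf₁, ha₁⟩ := exists_common_nhd (fun i => f i.succ) (fun i => a i.succ)
    obtain ⟨W, hW, r', m, _, hr, hm, _⟩ := common_rep P P x (f 0) (a 0) (a 0)
    have hx : x ∈ U₁ ⊓ W := mem_inf' x h₁ hW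
    refine ⟨U₁ ⊓ W, hx,
      Fin.cons ((R.map (homOfLE (inf_le_right : U₁ ⊓ W ≤ W)).op).hom r')
        (fun i => (R.map (homOfLE (inf_le_left : U₁ ⊓ W ≤ U₁)).op).hom (f₁ i)),
      Fin.cons (res P (homOfLE (inf_le_right : U₁ ⊓ W ≤ W)).op m)
        (fun i => res P (homOfLE (inf_le_left : U₁ ⊓ W ≤ U₁)).op (a₁ i)), ?_, ?_⟩
    · intro i
      refine Fin.cases ?_ (fun j => ?_) i
      · rw [Fin.cons_zero]
        exact (gr_res x _ hx r').trans hr
      · rw [Fin.cons_succ]
        exact (gr_res x _ hx (f₁ j)).trans (hf₁ j)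
    · intro i
      refine Fin.cases ?_ (fun j => ?_) i
      · rw [Fin.cons_zero]
        exact (gm_res P x _ hx m).trans hm
      · rw [Fin.cons_succ]
        exact (gm_res P x _ hx (a₁ j)).trans (ha₁ j)

/-- the stalks of a sectionwise flat presheaf of modules are flat -/
theorem flat_stalk (hP : ∀ U : Opens X, Module.Flat (R.obj (op U)) (P.obj (op U))) :
    Module.Flat (R.stalk x) (St P x) := by
  apply Module.Flat.of_forall_isTrivialRelation
  intro l f a hfa
  obtain ⟨U, hU, f', a', hf', ha'⟩ := exists_common_nhd P x f a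
  have h0 : gm P x U hU (∑ i, f' i • a' i) = gm P x U hU 0 := by
    rw [map_sum, map_zero, ← hfa]
    refine Finset.sum_congr rfl (fun i _ => ?_)
    rw [gm_smul, ← hf' i, ← ha' i]
    rfl
  obtain ⟨V, hV, iU, iU', e⟩ := TopCat.Presheaf.germ_eq P.presheaf x hU hU _ _ h0
  have e' : res P iU.op (∑ i, f' i • a' i) = res P iU'.op 0 := e
  rw [map_zero, map_sum] at e'
  have hrel : ∑ i, (R.map iU.op).hom (f' i) • res P iU.op (a' i) = 0 := by
    rw [← e']
    refine Finset.sum_congr rfl (fun i _ => ?_)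
    exact (res_smul P iU.op (f' i) (a' i)).symm
  have := hP V
  obtain ⟨k, A, y, hay, hfA⟩ := Module.Flat.isTrivialRelation_of_sum_smul_eq_zero hrel
  refine ⟨k, fun i j => gr (R := R) x V hV (A i j), fun j => gm P x V hV (y j), fun i => ?_,
    fun j => ?_⟩
  · have hay' : res P iU.op (a' i) = ∑ j, A i j • y j := hay i
    rw [← ha' i, ← gm_res P x iU hV (a' i), hay', map_sum]
    refine Finset.sum_congr rfl (fun j _ => ?_)
    rw [gm_smul]
    rfl
  · have hfA' : ∑ i, (R.map iU.op).hom (f' i) * A i j = 0 := hfA j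
    have := congrArg (gr (R := R) x V hV) hfA'
    rw [map_sum, map_zero] at this
    rw [← this]
    refine Finset.sum_congr rfl (fun i _ => ?_)
    rw [map_mul, ← hf' i, gr_res x iU hV (f' i)]

end Groth.Agent.Lib.Helper5.StalkFlat2
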