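import Mathlib
import Groth.Agent.Lib.Helper5.KFlatSite2.StalkFlatA
import Groth.Agent.Lib.Helper5.Misc.StalkFlat
import Groth.Agent.Lib.Helper5.Misc.TensorFlat

set_option autoImplicit false
set_option linter.unusedSectionVars false
set_option linter.unusedVariables false
universe u
open CategoryTheory CategoryTheory.Limits MonoidalCategory Opposite TensorProduct TopologicalSpace
open Groth.Agent.Lib.Helper5.TensorLocal Groth.Agent.Lib.Helper5.Misc.StalkTensor
  Groth.Agent.Lib.Helper5.TensorSheaf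

namespace Groth.Agent.Lib.Helper5.StalkFlat2

section Space

variable {X : TopCat.{u}} {R : X.Presheaf CommRingCat.{u}} {P Q : PMod R} (η : P ⟶ Q) (x : X)

lemma stalkMap_injective_of_locInj (h : LocInj (Opens.grothendieckTopology X) η) :
    Function.Injective (stalkMap x η) := by
  rw [injective_iff_map_eq_zero]
  intro a ha
  obtain ⟨U, hU, m, rfl⟩ := gm_exists P x a
  rw [stalkMap_gm] at ha
  have ha' : gm Q x U hU (η.app (op U) m) = gm Q x U hU 0 := by rw [ha, map_zero]
  obtain ⟨V, hV, iU, iU', e⟩ := TopCat.Presheaf.germ_eq Q.presheaf x hU hU _ _ ha'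
  have e' : res Q iU.op (η.app (op U) m) = res Q iU'.op 0 := e
  rw [map_zero, ← res_naturality] at e'
  obtain ⟨S, hS, hS'⟩ := h V (res P iU.op m) e'
  obtain ⟨W, g, hg, hxW⟩ := hS x hV
  have h0 : P.map g.op (res P iU.op m) = 0 := hS' g hg
  have h1 : gm P x W hxW (res P g.op (res P iU.op m)) = gm P x U hU m := by
    rw [gm_res, gm_res]
  rw [← h1]
  have h0' : res P g.op (res P iU.op m) = 0 := h0
  rw [h0', map_zero]

lemma stalkMap_surjective_of_locSurj (h : LocSurj (Opens.grothendieckTopology X) η) :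
    Function.Surjective (stalkMap x η) := by
  intro b
  obtain ⟨U, hU, q, rfl⟩ := gm_exists Q x b
  obtain ⟨S, hS, hS'⟩ := h U q
  obtain ⟨W, g, hg, hxW⟩ := hS x hU
  obtain ⟨m, hm⟩ := hS' g hg
  refine ⟨gm P x W hxW m, ?_⟩
  rw [stalkMap_gm, hm]
  exact gm_res Q x g hxW q

end Space

section RingedSpace

variable {X : TopCat.{u}} (O : Sheaf (Opens.grothendieckTopology X) CommRingCat.{u})

/-- the stalk of the sheafification agrees with the stalk of the presheaf -/
noncomputable def stalkShfEquiv (P : PM O) (x : X) :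
    St (R := Groth.Agent.Lib.Helper5.Misc.StalkFlat.ringPre O) P x ≃ₗ[(Groth.Agent.Lib.Helper5.Misc.StalkFlat.ringPre O).stalk x] St (R := Groth.Agent.Lib.Helper5.Misc.StalkFlat.ringPre O) ((fgt O).obj ((shf O).obj P)) x :=
  LinearEquiv.ofBijective (stalkMapL x ((unit' O).app P)) (by
    have hW := W_unit' (O := O) P
    rw [GrothendieckTopology.W_iff_isLocallyBijective, ← locInj_iff, ← locSurj_iff] at hW
    exact ⟨stalkMap_injective_of_locInj _ x hW.1, stalkMap_surjective_of_locSurj _ x hW.2⟩)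

theorem flat_stalk_shf (P : PM O)
    (hP : ∀ U : Opens X, Module.Flat (O.obj.obj (op U)) (P.obj (op U))) (x : X) :
    Module.Flat ((Groth.Agent.Lib.Helper5.Misc.StalkFlat.ringPre O).stalk x) (St (R := Groth.Agent.Lib.Helper5.Misc.StalkFlat.ringPre O) ((fgt O).obj ((shf O).obj P)) x) := by
  have := flat_stalk (R := Groth.Agent.Lib.Helper5.Misc.StalkFlat.ringPre O) P x hP
  exact Module.Flat.of_linearEquiv (stalkShfEquiv O P x).symm

/-- every sheaf of modules on a ringed space is a quotient of a tensor-flat and stalkwise flat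
one -/
theorem exists_flat_epi (F : ModSite.Mod O) :
    ∃ (G : ModSite.Mod O) (π : G ⟶ F), (ModSite.IsFlat G ∧
      ∀ x : X, Module.Flat ((Groth.Agent.Lib.Helper5.Misc.StalkFlat.ringPre O).stalk x) (St (R := Groth.Agent.Lib.Helper5.Misc.StalkFlat.ringPre O) ((fgt O).obj G) x)) ∧ Epi π := by
  let M : PM O := (fgt O).obj F
  refine ⟨(shf O).obj (Groth.Agent.Lib.Helper5.TensorFlat.freeCover M),
    (shf O).map (Groth.Agent.Lib.Helper5.TensorFlat.freeCoverπ M) ≫ (adj O).counit.app F,
    ⟨Groth.Agent.Lib.Helper5.TensorFlat.isFlat_shf _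
      (Groth.Agent.Lib.Helper5.TensorFlat.freeCover_flat M), fun x => ?_⟩, ?_⟩
  · refine flat_stalk_shf O _ (fun U => ?_) x
    exact inferInstanceAs (Module.Flat (O.obj.obj (op U))
      ((M.presheaf ⋙ forget Ab).obj (op U) →₀ O.obj.obj (op U)))
  · have h0 : (shf O).IsLeftAdjoint := (adj O).isLeftAdjoint
    have h1 : Epi ((shf O).map (Groth.Agent.Lib.Helper5.TensorFlat.freeCoverπ M)) := inferInstance
    have h2 : IsIso ((adj O).counit.app F) := isIso_counit_app F
    have h3 : Epi ((adj O).counit.app F) := @IsIso.epi_of_iso _ _ _ _ _ h2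
    exact @epi_comp _ _ _ _ _ _ h1 _ h3

end RingedSpace

end Groth.Agent.Lib.Helper5.StalkFlat2
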