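import Mathlib
import Groth.Agent.Lib.Helper5.KFlatSite2.StalkFlatB
import Groth.Agent.Lib.Helper5.Misc.SheafModGen
import Groth.Agent.Lib.Helper5.TorAmp.FlatAcyc

set_option autoImplicit false
set_option linter.unusedSectionVars false
set_option linter.unusedVariables false
universe u
open CategoryTheory CategoryTheory.Limits MonoidalCategory Opposite TensorProduct TopologicalSpace
open Groth.Agent.Lib.Helper5.TensorLocal Groth.Agent.Lib.Helper5.Misc.StalkTensor
  Groth.Agent.Lib.Helper5.TensorSheaf Groth.Agent.Lib.Helper5.Misc.StalkFlat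

namespace Groth.Agent.Lib.Helper5.StalkFlat2

variable {X : TopCat.{u}} (O : Sheaf (Opens.grothendieckTopology X) CommRingCat.{u})

/-- the stalk of a sheaf of modules -/
abbrev Sx (A : ModSite.Mod O) (x : X) : Type u := St (R := ringPre O) ((fgt O).obj A) x

/-- the map on stalks induced by a morphism of sheaves of modules -/
noncomputable abbrev sMap {A B : ModSite.Mod O} (φ : A ⟶ B) (x : X) :
    Sx O A x →ₗ[(ringPre O).stalk x] Sx O B x :=
  stalkMapL (R := ringPre O) x ((fgt O).map φ)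

/-- stalkwise flatness -/
def SFlat (A : ModSite.Mod O) : Prop :=
  ∀ x : X, Module.Flat ((ringPre O).stalk x) (Sx O A x)

lemma sMap_gm {A B : ModSite.Mod O} (φ : A ⟶ B) (x : X) (U : Opens X) (hU : x ∈ U)
    (m : ((fgt O).obj A).obj (op U)) :
    sMap O φ x (gm _ x U hU m) = gm _ x U hU (((fgt O).map φ).app (op U) m) :=
  stalkMap_gm x _ U hU m

/-- stalkwise flatness of the middle term of a split short exact sequence -/
theorem sflat_of_splitting (S : ShortComplex (ModSite.Mod O)) (sp : S.Splitting)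
    (h₁ : SFlat O S.X₁) (h₃ : SFlat O S.X₃) : SFlat O S.X₂ := by
  intro x
  have := h₁ x
  have := h₃ x
  let i : Sx O S.X₂ x →ₗ[(ringPre O).stalk x] (Sx O S.X₁ x × Sx O S.X₃ x) :=
    (sMap O sp.r x).prod (sMap O S.g x)
  let r : (Sx O S.X₁ x × Sx O S.X₃ x) →ₗ[(ringPre O).stalk x] Sx O S.X₂ x :=
    (sMap O S.f x).coprod (sMap O sp.s x)
  have : Module.Flat ((ringPre O).stalk x) (Sx O S.X₁ x × Sx O S.X₃ x) :=
    Groth.Agent.Helper5.FlatAcyc.flat_prod _ _
  refine Module.Flat.of_retract i r ?_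
  ext a
  obtain ⟨U, hU, m, rfl⟩ := gm_exists _ x a
  show sMap O S.f x (sMap O sp.r x (gm _ x U hU m)) + sMap O sp.s x (sMap O S.g x (gm _ x U hU m)) =
    gm _ x U hU m
  rw [sMap_gm, sMap_gm, sMap_gm, sMap_gm, ← map_add]
  congr 1
  have hid := congrArg (fun φ => ((fgt O).map φ).app (op U) m) sp.id
  exact hid

section Colim

/-- the stalk functor to abelian groups -/
noncomputable def stalkAb (x : X) : ModSite.Mod O ⥤ AddCommGrpCat.{u} :=
  SheafOfModules.toSheaf (ModSite.ringSh O) ⋙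
    (TopCat.Sheaf.forget AddCommGrpCat.{u} X ⋙ TopCat.Presheaf.stalkFunctor AddCommGrpCat.{u} x)

instance (x : X) : PreservesColimitsOfShape ℕ (stalkAb O x) := by
  have h1 : PreservesColimitsOfSize.{u, u} (SheafOfModules.toSheaf (ModSite.ringSh O)) :=
    Groth.Agent.Lib.Helper5.SheafModGen.toSheaf_preservesColimits _
  have h2 : PreservesColimitsOfSize.{u, u}
      (TopCat.Sheaf.forget AddCommGrpCat.{u} X ⋙ TopCat.Presheaf.stalkFunctor AddCommGrpCat.{u} x) :=
    (Adjunction.ofIsLeftAdjoint _).leftAdjoint_preservesColimits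
  have h3 : PreservesColimitsOfSize.{u, u} (stalkAb O x) := by
    unfold stalkAb
    exact @comp_preservesColimits _ _ _ _ _ _ _ _ h1 h2
  have h4 : PreservesColimitsOfSize.{0, 0} (stalkAb O x) :=
    preservesColimitsOfSize_shrink.{0, u, 0, u} _
  infer_instance

instance preservesColimitsOfShape_nat_forget_ab :
    PreservesColimitsOfShape ℕ (forget AddCommGrpCat.{u}) := by
  have : PreservesFilteredColimitsOfSize.{0, 0} (forget AddCommGrpCat.{u}) :=
    preservesSmallestFilteredColimits_of_preservesFilteredColimits.{u, u} _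
  exact PreservesFilteredColimitsOfSize.preserves_filtered_colimits ℕ

variable (D : ℕ ⥤ ModSite.Mod O) (c : Cocone D) (hc : IsColimit c) (x : X)

include hc in
theorem exists_rep (a : Sx O c.pt x) :
    ∃ (k : ℕ) (b : Sx O (D.obj k) x), sMap O (c.ι.app k) x b = a := by
  obtain ⟨k, y, hy⟩ := Concrete.isColimit_exists_rep (D ⋙ stalkAb O x)
    (isColimitOfPreserves (stalkAb O x) hc) a
  exact ⟨k, y, hy⟩

include hc in
theorem exists_map_eq_zero (k : ℕ) (b : Sx O (D.obj k) x) (hb : sMap O (c.ι.app k) x b = 0) :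
    ∃ (k' : ℕ) (hk : k ≤ k'), sMap O (D.map (homOfLE hk)) x b = 0 := by
  obtain ⟨k', f, g, h⟩ := Concrete.isColimit_exists_of_rep_eq (D ⋙ stalkAb O x)
    (isColimitOfPreserves (stalkAb O x) hc) b (0 : Sx O (D.obj k) x)
    (by
      show sMap O (c.ι.app k) x b = sMap O (c.ι.app k) x 0
      rw [hb, map_zero])
  refine ⟨k', leOfHom f, ?_⟩
  have : sMap O (D.map g) x (0 : Sx O (D.obj k) x) = 0 := map_zero _
  exact h.trans this

lemma sMap_comp {A B E : ModSite.Mod O} (φ : A ⟶ B) (ψ : B ⟶ E) (a : Sx O A x) :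
    sMap O (φ ≫ ψ) x a = sMap O ψ x (sMap O φ x a) := by
  obtain ⟨U, hU, m, rfl⟩ := gm_exists _ x a
  rw [sMap_gm, sMap_gm, sMap_gm]
  rfl

lemma ι_map_apply {k k' : ℕ} (hk : k ≤ k') (b : Sx O (D.obj k) x) :
    sMap O (c.ι.app k') x (sMap O (D.map (homOfLE hk)) x b) = sMap O (c.ι.app k) x b := by
  rw [← sMap_comp, c.w]

include hc in
/-- a sequential colimit of stalkwise flat modules is stalkwise flat -/
theorem sflat_of_isColimit (hD : ∀ k, SFlat O (D.obj k)) : SFlat O c.pt := by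
  intro x
  apply Module.Flat.of_forall_isTrivialRelation
  intro l f a hfa
  choose k₀ y₀ hy₀ using fun i => exists_rep O D c hc x (a i)
  obtain ⟨k, hk⟩ : ∃ k, ∀ i, k₀ i ≤ k :=
    ⟨Finset.univ.sup k₀, fun i => Finset.le_sup (Finset.mem_univ i)⟩
  let y : Fin l → Sx O (D.obj k) x := fun i => sMap O (D.map (homOfLE (hk i))) x (y₀ i)
  have hy : ∀ i, sMap O (c.ι.app k) x (y i) = a i :=
    fun i => (ι_map_apply O D c x (hk i) (y₀ i)).trans (hy₀ i)
  have h0 : sMap O (c.ι.app k) x (∑ i, f i • y i) = 0 := by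
    rw [map_sum]
    simp_rw [map_smul, hy]
    exact hfa
  obtain ⟨k', hkk', hz⟩ := exists_map_eq_zero O D c hc x k _ h0
  let y' : Fin l → Sx O (D.obj k') x := fun i => sMap O (D.map (homOfLE hkk')) x (y i)
  have hy' : ∀ i, sMap O (c.ι.app k') x (y' i) = a i :=
    fun i => (ι_map_apply O D c x hkk' (y i)).trans (hy i)
  have hrel : ∑ i, f i • y' i = 0 := by
    rw [← hz, map_sum]
    simp_rw [map_smul]
    rfl
  have := hD k' x
  obtain ⟨κ, A, z, hxz, hfA⟩ := Module.Flat.isTrivialRelation_of_sum_smul_eq_zero hrel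
  refine ⟨κ, A, fun j => sMap O (c.ι.app k') x (z j), fun i => ?_, hfA⟩
  rw [← hy' i, hxz i, map_sum]
  simp_rw [map_smul]

end Colim

end Groth.Agent.Lib.Helper5.StalkFlat2
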