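import Mathlib
import Groth.Agent.Lib.Helper5.KFlatSite2.StalkFlatC

/-!
# Skyscraper modules on a ringed space and stalkwise flatness of flat modules (helper5)
-/
set_option autoImplicit false
set_option linter.unusedSectionVars false
set_option linter.unusedVariables false
universe u
open CategoryTheory CategoryTheory.Limits MonoidalCategory Opposite TensorProduct TopologicalSpace
open Groth.Agent.Lib.Helper5.TensorLocal Groth.Agent.Lib.Helper5.Misc.StalkTensor
  Groth.Agent.Lib.Helper5.TensorSheaf Groth.Agent.Lib.Helper5.Misc.StalkFlat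

namespace Groth.Agent.Lib.Helper5.Sky

variable {X : TopCat.{u}} (R : X.Presheaf CommRingCat.{u}) (x : X)
  (N : Type u) [AddCommGroup N] [Module (R.stalk x) N]

/-- sections of the skyscraper module over `U` -/
def SkyT (U : Opens X) : Type u := PLift (x ∈ U) → N

instance (U : Opens X) : AddCommGroup (SkyT x N U) := inferInstanceAs (AddCommGroup (PLift (x ∈ U) → N))

noncomputable instance skyModule (U : Opens X) : Module (R.obj (op U)) (SkyT x N U) :=
  @Pi.module (PLift (x ∈ U)) (fun _ => N) (R.obj (op U)) _ _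
    (fun h => Module.compHom N (gr (R := R) x U h.down))

lemma sky_smul_apply (U : Opens X) (r : R.obj (op U)) (φ : SkyT x N U) (h : PLift (x ∈ U)) :
    (r • φ) h = (gr (R := R) x U h.down r) • φ h := rfl

/-- the underlying abelian presheaf -/
noncomputable def skyAb : (Opens X)ᵒᵖ ⥤ AddCommGrpCat.{u} where
  obj U := AddCommGrpCat.of (SkyT x N U.unop)
  map {U V} i := AddCommGrpCat.ofHom
    { toFun := fun φ h => φ ⟨leOfHom i.unop h.down⟩
      map_zero' := rfl
      map_add' := fun _ _ => rfl }
  map_id _ := rfl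
  map_comp _ _ := rfl

lemma skyAb_map_apply {U V : (Opens X)ᵒᵖ} (i : U ⟶ V) (φ : SkyT x N U.unop)
    (h : PLift (x ∈ V.unop)) :
    ((skyAb x N).map i).hom φ h = φ ⟨leOfHom i.unop h.down⟩ := rfl

noncomputable instance (U : (Opens X)ᵒᵖ) :
    Module ((R ⋙ forget₂ CommRingCat RingCat).obj U) ((skyAb x N).obj U) :=
  skyModule R x N U.unop

/-- the skyscraper presheaf of modules -/
noncomputable def sky : PMod R :=
  PresheafOfModules.ofPresheaf (skyAb x N) (by
    intro U V i r φ
    funext h
    show (gr (R := R) x U.unop (leOfHom i.unop h.down) r) • φ ⟨leOfHom i.unop h.down⟩ =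
      (gr (R := R) x V.unop h.down ((R.map i).hom r)) • φ ⟨leOfHom i.unop h.down⟩
    congr 1
    exact (gr_res (R := R) x i.unop h.down r).symm)

lemma sky_presheaf : (sky R x N).presheaf = skyAb x N := rfl

/-- the skyscraper presheaf is a sheaf -/
theorem skyAb_isSheaf : TopCat.Presheaf.IsSheaf (skyAb x N) := by
  rw [TopCat.Presheaf.isSheaf_iff_isSheafUniqueGluing]
  intro ι U sf hsf
  have hex : ∀ h : PLift (x ∈ iSup U), ∃ i, x ∈ U i := fun h => Opens.mem_iSup.1 h.down
  have key : ∀ (i j : ι) (hi : x ∈ U i) (hj : x ∈ U j), sf i ⟨hi⟩ = sf j ⟨hj⟩ := by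
    intro i j hi hj
    have := congrFun (hsf i j) ⟨⟨hi, hj⟩⟩
    exact this
  refine ⟨fun h => sf (hex h).choose ⟨(hex h).choose_spec⟩, ?_, ?_⟩
  · intro i
    funext h
    exact key _ _ _ _
  · intro s hs
    funext h
    have := congrFun (hs (hex h).choose) ⟨(hex h).choose_spec⟩
    exact this

section Ev

/-- evaluation at the point, on sections -/
def evU (U : Opens X) (hU : x ∈ U) : SkyT x N U →+ N where
  toFun φ := φ ⟨hU⟩
  map_zero' := rfl
  map_add' _ _ := rfl

/-- the cocone defining the evaluation map on the stalk -/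
noncomputable def evCocone : Cocone ((OpenNhds.inclusion x).op ⋙ (sky R x N).presheaf) where
  pt := AddCommGrpCat.of N
  ι :=
    { app := fun U => AddCommGrpCat.ofHom (evU x N U.unop.1 U.unop.2)
      naturality := fun U V i => by
        ext φ
        rfl }

/-- the evaluation map `(sky N)_x → N` -/
noncomputable def ev : St (sky R x N) x →+ N :=
  (colimit.desc ((OpenNhds.inclusion x).op ⋙ (sky R x N).presheaf) (evCocone R x N)).hom

lemma ev_gm (U : Opens X) (hU : x ∈ U) (φ : SkyT x N U) :
    ev R x N ((gm (sky R x N) x U hU : SkyT x N U →+ St (sky R x N) x) φ) = φ ⟨hU⟩ := by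
  have := colimit.ι_desc (evCocone R x N) (op ⟨U, hU⟩)
  exact congrArg (fun f => f.hom φ) this

lemma ev_injective : Function.Injective (ev R x N) := by
  rw [injective_iff_map_eq_zero]
  intro a ha
  obtain ⟨U, hU, φ, rfl⟩ := gm_exists (sky R x N) x a
  have h0 : (φ : SkyT x N U) = 0 := by
    funext h
    have := ev_gm R x N U hU φ
    rw [ha] at this
    exact this.symm
  have h1 : (gm (sky R x N) x U hU : SkyT x N U →+ St (sky R x N) x) φ =
      (gm (sky R x N) x U hU : SkyT x N U →+ St (sky R x N) x) 0 := congrArg _ h0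
  rw [h1, map_zero]

lemma ev_surjective : Function.Surjective (ev R x N) := fun n =>
  ⟨(gm (sky R x N) x ⊤ trivial : SkyT x N ⊤ →+ St (sky R x N) x) (fun _ => n), ev_gm R x N ⊤ trivial _⟩

lemma ev_smul (r : R.stalk x) (a : St (sky R x N) x) : ev R x N (r • a) = r • ev R x N a := by
  obtain ⟨W, hW, r', φ, _, rfl, rfl, _⟩ := common_rep (sky R x N) (sky R x N) x r a a
  have h1 : (gr (R := R) x W hW r' : R.stalk x) • gm (sky R x N) x W hW φ =
      gm (sky R x N) x W hW (r' • φ) := (gm_smul (sky R x N) x W hW r' φ).symm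
  rw [h1]
  erw [ev_gm, ev_gm]
  rfl

/-- the stalk of the skyscraper at the point -/
noncomputable def evEquiv : St (sky R x N) x ≃ₗ[R.stalk x] N :=
  LinearEquiv.ofBijective
    { toFun := ev R x N
      map_add' := map_add _
      map_smul' := ev_smul R x N } ⟨ev_injective R x N, ev_surjective R x N⟩

end Ev

section Map

variable {N} {N' : Type u} [AddCommGroup N'] [Module (R.stalk x) N'] (f : N →ₗ[R.stalk x] N')

/-- the map of skyscrapers induced by a linear map -/
noncomputable def skyMap : sky R x N ⟶ sky R x N' :=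
  PresheafOfModules.homMk
    { app := fun U => AddCommGrpCat.ofHom
        { toFun := fun (φ : SkyT x N U.unop) => (fun h => f (φ h) : SkyT x N' U.unop)
          map_zero' := by funext h; exact map_zero f
          map_add' := fun a b => by funext h; exact map_add f _ _ }
      naturality := fun U V i => rfl }
    (by
      intro U r φ
      funext h
      exact map_smul f _ _)

lemma skyMap_app_apply (U : Opens X) (φ : SkyT x N U) (h : PLift (x ∈ U)) :
    ((skyMap R x f).app (op U) φ : SkyT x N' U) h = f (φ h) := rfl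

lemma ev_stalkMap (a : St (sky R x N) x) :
    ev R x N' (stalkMap x (skyMap R x f) a) = f (ev R x N a) := by
  obtain ⟨U, hU, φ, rfl⟩ := gm_exists (sky R x N) x a
  rw [stalkMap_gm]
  erw [ev_gm, ev_gm]
  rfl

lemma skyMap_app_injective (hf : Function.Injective f) (U : (Opens X)ᵒᵖ) :
    Function.Injective ((skyMap R x f).app U) := by
  intro a b hab
  funext h
  exact hf (congrFun hab h)

end Map

end Groth.Agent.Lib.Helper5.Sky
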