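import Mathlib
import Groth.Agent.Lib.Helper5.KFlatSite2.Sky

set_option autoImplicit false
set_option linter.unusedSectionVars false
set_option linter.unusedVariables false
universe u
open CategoryTheory CategoryTheory.Limits MonoidalCategory Opposite TensorProduct TopologicalSpace
open Groth.Agent.Lib.Helper5.TensorLocal Groth.Agent.Lib.Helper5.Misc.StalkTensor
  Groth.Agent.Lib.Helper5.TensorSheaf Groth.Agent.Lib.Helper5.Misc.StalkFlat

namespace Groth.Agent.Lib.Helper5.Sky

section Theta

variable {X : TopCat.{u}} {R : X.Presheaf CommRingCat.{u}} (M N : PMod R) (x : X)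

lemma theta_psi (t : St M x ⊗[R.stalk x] St N x) : theta M N x (psi M N x t) = t := by
  induction t using TensorProduct.induction_on with
  | zero => simp
  | tmul a b =>
    obtain ⟨W, hW, r', m, n, _, rfl, rfl⟩ := common_rep M N x 1 a b
    have h1 : psi M N x (gm M x W hW m ⊗ₜ gm N x W hW n) = gT M N x W hW (m ⊗ₜ n) :=
      (psi_tmul M N x _ _).trans ((beta_gm M N x W W hW hW m n).trans (gtm_self M N x W hW m n))
    rw [h1]
    exact theta_gm M N x W hW (m ⊗ₜ n)
  | add a b ha hb => rw [map_add, map_add, ha, hb]

lemma theta_surjective : Function.Surjective (theta M N x) := fun t => ⟨_, theta_psi M N x t⟩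

variable {N} {N' : PMod R} (f : N ⟶ N')

lemma lTensor_stalkMapL_injective (h : Function.Injective (stalkMap x (M ◁ f))) :
    Function.Injective (LinearMap.lTensor (St M x) (stalkMapL x f)) := by
  intro u v huv
  obtain ⟨s, rfl⟩ := theta_surjective M N x u
  obtain ⟨s', rfl⟩ := theta_surjective M N x v
  rw [← theta_natural, ← theta_natural] at huv
  rw [h (theta_injective M N' x huv)]

lemma stalkMap_comp {N'' : PMod R} (g : N' ⟶ N'') (a : St N x) :
    stalkMap x (f ≫ g) a = stalkMap x g (stalkMap x f a) := by
  obtain ⟨U, hU, n, rfl⟩ := gm_exists N x a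
  rw [stalkMap_gm, stalkMap_gm, stalkMap_gm]
  rfl

end Theta

section Main

variable {X : TopCat.{u}} (O : Sheaf (Opens.grothendieckTopology X) CommRingCat.{u}) (x : X)

/-- the skyscraper sheaf of modules -/
noncomputable def skySh (N : Type u) [AddCommGroup N] [Module ((ringPre O).stalk x) N] :
    ModSite.Mod O :=
  ⟨sky (ringPre O) x N, skyAb_isSheaf x N⟩

variable {N N' : Type u} [AddCommGroup N] [Module ((ringPre O).stalk x) N]
  [AddCommGroup N'] [Module ((ringPre O).stalk x) N'] (f : N →ₗ[(ringPre O).stalk x] N')

/-- the induced map of skyscraper sheaves -/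
noncomputable def skyShMap : skySh O x N ⟶ skySh O x N' :=
  ⟨skyMap (ringPre O) x f⟩

lemma mono_skyShMap (hf : Function.Injective f) : Mono (skyShMap O x f) := by
  apply (SheafOfModules.toSheaf (ModSite.ringSh O)).mono_of_mono_map
  apply (sheafToPresheaf _ _).mono_of_mono_map
  apply (config := { allowSynthFailures := true }) NatTrans.mono_of_mono_app
  intro U
  rw [AddCommGrpCat.mono_iff_injective]
  exact skyMap_app_injective (ringPre O) x f hf U

/-- a (tensor-)flat sheaf of modules on a ringed space has flat stalks -/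
theorem sflat_of_isFlat (A : ModSite.Mod O) (hA : ModSite.IsFlat A) :
    Groth.Agent.Lib.Helper5.StalkFlat2.SFlat O A := by
  intro x
  rw [Module.Flat.iff_lTensor_preserves_injective_linearMap]
  intro N N' _ _ _ _ f hf
  have := mono_skyShMap O x f hf
  have m' : Mono ((shf O).map ((fgt O).obj A ◁ (fgt O).map (skyShMap O x f))) :=
    Groth.Agent.Lib.Helper5.TensorSES.mono_obj_map_of_isFlat A hA (skyShMap O x f)
  have i1 := stalkMap_injective_of_mono O
    ((shf O).map ((fgt O).obj A ◁ (fgt O).map (skyShMap O x f))) x
  have nat := (unit' O).naturality ((fgt O).obj A ◁ (fgt O).map (skyShMap O x f))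
  have i2 : Function.Injective
      (stalkMap x ((fgt O).obj A ◁ (fgt O).map (skyShMap O x f))) := by
    intro a b hab
    have e1 := congrArg (stalkMap x ((unit' O).app _)) hab
    rw [← stalkMap_comp, ← stalkMap_comp] at e1
    erw [nat] at e1
    rw [stalkMap_comp, stalkMap_comp] at e1
    exact (Groth.Agent.Lib.Helper5.StalkFlat2.stalkShfEquiv O _ x).injective (i1 e1)
  have i3 := lTensor_stalkMapL_injective ((fgt O).obj A) x ((fgt O).map (skyShMap O x f)) i2
  let e := evEquiv (ringPre O) x N
  let e' := evEquiv (ringPre O) x N'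
  have hf' : f = (e'.toLinearMap ∘ₗ stalkMapL x (skyMap (ringPre O) x f)) ∘ₗ
      e.symm.toLinearMap := by
    ext n
    show f n = ev (ringPre O) x N' (stalkMap x (skyMap (ringPre O) x f) (e.symm n))
    rw [ev_stalkMap]
    exact congrArg f (e.apply_symm_apply n).symm
  rw [hf', LinearMap.lTensor_comp, LinearMap.lTensor_comp]
  exact ((LinearEquiv.lTensor _ e').injective.comp i3).comp (LinearEquiv.lTensor _ e.symm).injective

end Main

end Groth.Agent.Lib.Helper5.Sky
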