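import Mathlib
import Groth.Agent.Lib.Helper5.KFlatG.Qis
import Groth.Agent.Lib.Helper5.Misc.KFlatSite

set_option autoImplicit false
set_option linter.unusedSectionVars false
set_option linter.unusedVariables false
set_option linter.style.haveILetI false
universe u
open CategoryTheory CategoryTheory.Limits HomologicalComplex
attribute [local instance] HasDerivedCategory.standard

namespace Groth.Agent.Lib.Helper5.KFlatSiteQ

open Groth.Agent.Lib.Helper5.KFlatG Groth.Agent.Lib.Helper5.Misc.KFlatSite
  Groth.Agent.Lib.Helper5.TensorSES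

variable {C : Type u} [SmallCategory C] {J : GrothendieckTopology C} (O : Sheaf J CommRingCat.{u})

lemma isKF_iff (K : CochainComplex (ModSite.Mod O) ℤ) :
    IsKF (ModSite.tensorBi O) K ↔ ModSite.IsKFlat K := Iff.rfl

/-- tensoring with a K-flat complex preserves quasi-isomorphisms (first variable) -/
theorem quasiIso_tensor_right {K : CochainComplex (ModSite.Mod O) ℤ} (hK : ModSite.IsKFlat K)
    {F F' : CochainComplex (ModSite.Mod O) ℤ} (φ : F ⟶ F') (hφ : QuasiIso φ) :
    QuasiIso (((ModSite.tensorCx O).map φ).app K) :=
  quasiIso_m₁ (ModSite.tensorBi O) hK φ hφ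

end Groth.Agent.Lib.Helper5.KFlatSiteQ
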