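import Mathlib
import Groth.Agent.Lib.Helper5.KFlatG.Symm
import Groth.Agent.Lib.Helper5.KFlatSite2.Qis

set_option autoImplicit false
set_option linter.unusedSectionVars false
set_option linter.unusedVariables false
set_option linter.style.haveILetI false
universe u
open CategoryTheory CategoryTheory.Limits HomologicalComplex MonoidalCategory
attribute [local instance] HasDerivedCategory.standard

namespace Groth.Agent.Lib.Helper5.KFlatSiteQ

open Groth.Agent.Lib.Helper5.KFlatG Groth.Agent.Lib.Helper5.Misc.KFlatSite
  Groth.Agent.Lib.Helper5.TensorSES Groth.Agent.Lib.Helper5.TensorSheaf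

variable {C : Type u} [SmallCategory C] {J : GrothendieckTopology C} (O : Sheaf J CommRingCat.{u})

/-- the symmetry of the tensor bifunctor -/
noncomputable def flipIso : (ModSite.tensorBi O).flip ≅ ModSite.tensorBi O :=
  NatIso.ofComponents
    (fun X => NatIso.ofComponents
      (fun Y => (shf O).mapIso (β_ ((fgt O).obj Y) ((fgt O).obj X)))
      (fun {Y Y'} g => by
        dsimp [ModSite.tensorBi]
        rw [← Functor.map_comp, ← Functor.map_comp]
        congr 1
        exact BraidedCategory.braiding_naturality_left _ _))
    (fun {X X'} f => by
      ext Y : 2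
      dsimp [ModSite.tensorBi]
      rw [← Functor.map_comp, ← Functor.map_comp]
      congr 1
      exact BraidedCategory.braiding_naturality_right _ _)

end Groth.Agent.Lib.Helper5.KFlatSiteQ
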