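import Mathlib
import Groth.Agent.Lib.Helper5.KFlatG.Res
import Groth.Agent.Lib.Helper5.KFlatG.ZeroDiff
import Groth.Agent.Lib.Helper5.KFlatSite2.Symm
import Groth.Agent.Lib.Helper5.Misc.TensorFlat

set_option autoImplicit false
set_option linter.unusedSectionVars false
set_option linter.unusedVariables false
set_option linter.style.haveILetI false
universe u
open CategoryTheory CategoryTheory.Limits HomologicalComplex MonoidalCategory
attribute [local instance] HasDerivedCategory.standard

namespace Groth.Agent.Lib.Helper5.KFlatSiteQ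

open Groth.Agent.Lib.Helper5.KFlatG Groth.Agent.Lib.Helper5.Misc.KFlatSite
  Groth.Agent.Lib.Helper5.TensorSES Groth.Agent.Lib.Helper5.TensorSheaf
  Groth.Agent.Lib.Helper5.Misc.KFlatGen

variable {C : Type u} [SmallCategory C] {J : GrothendieckTopology C} (O : Sheaf J CommRingCat.{u})

instance preservesColimitsOfShape_discrete_tensorBi_obj (I : Type) (N : ModSite.Mod O) :
    PreservesColimitsOfShape (Discrete I) ((ModSite.tensorBi O).obj N) := by
  haveI := preservesColimits_tensorBi_obj O N
  exact preservesColimitsOfShape_of_equiv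
    (Discrete.equivalence (Equiv.ulift : ULift.{u} I ≃ I)) _

/-- K-flat complexes are stable under colimits of exact shape preserved by the tensor product -/
theorem isKFlat_of_isColimit {K : Type*} [Category K] [HasColimitsOfShape K (ModSite.Mod O)]
    [HasExactColimitsOfShape K (ModSite.Mod O)]
    [∀ N : ModSite.Mod O, PreservesColimitsOfShape K ((ModSite.tensorBi O).obj N)]
    (D : K ⥤ CochainComplex (ModSite.Mod O) ℤ) (c : Cocone D) (hc : IsColimit c)
    (hD : ∀ k, ModSite.IsKFlat (D.obj k)) : ModSite.IsKFlat c.pt := by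
  intro F hF i
  exact acyclic_of_isColimit (D ⋙ (ModSite.tensorCx O).obj F)
    (((ModSite.tensorCx O).obj F).mapCocone c)
    (isColimitTot (ModSite.tensorBi O) F _ hc)
    (fun n i => hD n F hF i) i

/-- a complex with zero differential and flat terms is K-flat -/
theorem isKFlat_of_d_eq_zero (F : CochainComplex (ModSite.Mod O) ℤ) (hd : ∀ i j, F.d i j = 0)
    (hflat : ∀ n, ModSite.IsFlat (F.X n)) : ModSite.IsKFlat F := by
  refine isKFlat_of_isColimit O _ (pieceCofan F hd) (pieceCofan_isColimit F hd).some ?_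
  rintro ⟨n⟩
  refine isKFlat_of_concentrated O _ n
    (fun m hm => HomologicalComplex.isZero_single_obj_X (ComplexShape.up ℤ) n (F.X n) m hm) ?_
  exact Groth.Agent.S6146.isFlat_of_iso
    (HomologicalComplex.singleObjXSelf (ComplexShape.up ℤ) n (F.X n)).symm (hflat n)

/-- the terms of a mapping cone of complexes with flat terms are flat -/
theorem isFlat_cone_X {K₁ K₂ : CochainComplex (ModSite.Mod O) ℤ} (φ : K₁ ⟶ K₂)
    (h₁ : ∀ n, ModSite.IsFlat (K₁.X n)) (h₂ : ∀ n, ModSite.IsFlat (K₂.X n)) (n : ℤ) :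
    ModSite.IsFlat ((CochainComplex.mappingCone φ).X n) :=
  isFlat_X₂ _ (CochainComplex.mappingCone.triangleRotateShortComplexSplitting φ n).shortExact
    (h₂ n) (h₁ (n + 1))

/-- a sequential colimit of flat modules is flat -/
theorem isFlat_of_isColimit_nat (D : ℕ ⥤ ModSite.Mod O) (hD : ∀ k, ModSite.IsFlat (D.obj k))
    (c : Cocone D) (hc : IsColimit c) : ModSite.IsFlat c.pt := by
  haveI : IsFiltered (ULiftHom.{u} (ULift.{u} ℕ)) :=
    IsFiltered.of_equivalence (ULiftHomULiftCategory.equiv.{u, u} ℕ)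
  haveI := Groth.Agent.S9107.result O (ULiftHom.{u} (ULift.{u} ℕ))
  let e := (ULiftHomULiftCategory.equiv.{u, u} ℕ).symm
  exact isFlat_of_isColimit (ULiftHom.{u} (ULift.{u} ℕ)) (e.functor ⋙ D) (fun k => hD _)
    (c.whisker e.functor) ((Functor.Final.isColimitWhiskerEquiv e.functor c).symm hc)

/-- existence of K-flat resolutions with flat terms, surjective in every degree -/
theorem exists_isKFlat_resolution (G : CochainComplex (ModSite.Mod O) ℤ) :
    ∃ (K : CochainComplex (ModSite.Mod O) ℤ) (q : K ⟶ G), ModSite.IsKFlat K ∧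
      (∀ n : ℤ, ModSite.IsFlat (K.X n)) ∧ QuasiIso q ∧ ∀ n : ℤ, Epi (q.f n) := by
  refine exists_resolution (Fl := fun M : ModSite.Mod O => ModSite.IsFlat M)
    (fun M => Groth.Agent.Lib.Helper5.TensorFlat.exists_flat_epi M) G
    (fun K => ModSite.IsKFlat K) (isKFlat_of_d_eq_zero O)
    (fun φ h1 h2 => (isKFlat_cone_two_of_three O φ).1 h1 h2)
    (fun φ h1 h2 => isFlat_cone_X O φ h1 h2)
    (fun D hD => isKFlat_colimit O D hD)
    (fun D n hD => ?_)
  exact isFlat_of_isColimit_nat O (D ⋙ HomologicalComplex.eval _ _ n) hD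
    ((HomologicalComplex.eval _ _ n).mapCocone (colimit.cocone D)) (isColimitOfPreserves _ (colimit.isColimit D))

end Groth.Agent.Lib.Helper5.KFlatSiteQ
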