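import Mathlib
import Groth.Agent.Lib.Helper5.KFlatSite2.Res

set_option autoImplicit false
set_option linter.unusedSectionVars false
set_option linter.unusedVariables false
set_option linter.style.haveILetI false
universe u
open CategoryTheory CategoryTheory.Limits HomologicalComplex MonoidalCategory
attribute [local instance] HasDerivedCategory.standard

namespace Groth.Agent.Lib.Helper5.KFlatSiteQ

open Groth.Agent.Lib.Helper5.KFlatG Groth.Agent.Lib.Helper5.Misc.KFlatSite
  Groth.Agent.Lib.Helper5.TensorSES Groth.Agent.Lib.Helper5.TensorSheaf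

variable {C : Type u} [SmallCategory C] {J : GrothendieckTopology C} (O : Sheaf J CommRingCat.{u})

theorem hasKFRes : HasKFRes (ModSite.tensorBi O) := fun L => by
  obtain ⟨P, p, h1, _, h3, _⟩ := exists_isKFlat_resolution O L
  exact ⟨P, p, h1, h3⟩

/-- tensoring an acyclic complex with a K-flat complex on the left -/
theorem acyc_tensor_left {K : CochainComplex (ModSite.Mod O) ℤ} (hK : ModSite.IsKFlat K)
    (M : CochainComplex (ModSite.Mod O) ℤ) (hM : ∀ i, IsZero (M.homology i)) (i : ℤ) :
    IsZero ((((ModSite.tensorCx O).obj K).obj M).homology i) :=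
  acyc_left (ModSite.tensorBi O) (flipIso O) hK M hM i

/-- `K ⊗ -` preserves quasi-isomorphisms for `K` K-flat -/
theorem quasiIso_tensor_left {K : CochainComplex (ModSite.Mod O) ℤ} (hK : ModSite.IsKFlat K)
    {L₁ L₂ : CochainComplex (ModSite.Mod O) ℤ} (α : L₁ ⟶ L₂) (hα : QuasiIso α) :
    QuasiIso (((ModSite.tensorCx O).obj K).map α) :=
  quasiIso_m₂ (ModSite.tensorBi O) (flipIso O) hK α hα

/-- a quasi-isomorphism between K-flat complexes stays one after tensoring with anything -/
theorem quasiIso_tensor_left_of_isKFlat {P Q : CochainComplex (ModSite.Mod O) ℤ} (α : P ⟶ Q)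
    (hP : ModSite.IsKFlat P) (hQ : ModSite.IsKFlat Q) (hα : QuasiIso α)
    (F : CochainComplex (ModSite.Mod O) ℤ) :
    QuasiIso (((ModSite.tensorCx O).obj F).map α) :=
  quasiIso_m₂_of_isKF (ModSite.tensorBi O) (flipIso O) (hasKFRes O) α hP hQ hα F

theorem quasiIso_tensor_right_of_isKFlat {P Q : CochainComplex (ModSite.Mod O) ℤ} (α : P ⟶ Q)
    (hP : ModSite.IsKFlat P) (hQ : ModSite.IsKFlat Q) (hα : QuasiIso α)
    (F : CochainComplex (ModSite.Mod O) ℤ) :
    QuasiIso (((ModSite.tensorCx O).map α).app F) :=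
  quasiIso_m₁_of_isKF (ModSite.tensorBi O) (flipIso O) (hasKFRes O) α hP hQ hα F

end Groth.Agent.Lib.Helper5.KFlatSiteQ
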