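import Mathlib
import Groth.Agent.Lib.Helper5.KFlatSite2.Res
import Groth.Agent.Lib.Helper5.KFlatSite2.Two

/-!
# Cellular K-flat complexes on a ringed site (helper5)
-/
set_option autoImplicit false
set_option linter.unusedSectionVars false
set_option linter.unusedVariables false
set_option linter.style.haveILetI false
universe u
open CategoryTheory CategoryTheory.Limits HomologicalComplex
attribute [local instance] HasDerivedCategory.standard

namespace Groth.Agent.Lib.Helper5.KFlatSiteQ

open Groth.Agent.Lib.Helper5.KFlatG Groth.Agent.Lib.Helper5.Misc.KFlatSite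
  Groth.Agent.Lib.Helper5.TensorSES Groth.Agent.Lib.Helper5.TensorSheaf
  Groth.Agent.Lib.Helper5.Misc.KFlatGen

variable {C : Type u} [SmallCategory C] {J : GrothendieckTopology C} (O : Sheaf J CommRingCat.{u})

/-- the smallest class of complexes containing the complexes with zero differential and flat
terms, stable under cones, sequential colimits and isomorphisms -/
inductive Cell : CochainComplex (ModSite.Mod O) ℤ → Prop
  | zero (G : CochainComplex (ModSite.Mod O) ℤ) (hd : ∀ i j, G.d i j = 0)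
      (hfl : ∀ n, ModSite.IsFlat (G.X n)) : Cell G
  | cone {K₁ K₂ : CochainComplex (ModSite.Mod O) ℤ} (φ : K₁ ⟶ K₂) :
      Cell K₁ → Cell K₂ → Cell (CochainComplex.mappingCone φ)
  | colim (D : ℕ ⥤ CochainComplex (ModSite.Mod O) ℤ) : (∀ k, Cell (D.obj k)) → Cell (colimit D)
  | iso {K K' : CochainComplex (ModSite.Mod O) ℤ} (e : K ≅ K') : Cell K → Cell K'

theorem isFlat_colimit_X (D : ℕ ⥤ CochainComplex (ModSite.Mod O) ℤ) (n : ℤ)
    (hD : ∀ k, ModSite.IsFlat ((D.obj k).X n)) : ModSite.IsFlat ((colimit D).X n) :=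
  isFlat_of_isColimit_nat O (D ⋙ HomologicalComplex.eval _ _ n) hD
    ((HomologicalComplex.eval _ _ n).mapCocone (colimit.cocone D))
    (isColimitOfPreserves _ (colimit.isColimit D))

/-- cellular complexes are K-flat with flat terms -/
theorem Cell.isKFlat {K : CochainComplex (ModSite.Mod O) ℤ} (h : Cell O K) :
    ModSite.IsKFlat K ∧ ∀ n, ModSite.IsFlat (K.X n) := by
  induction h with
  | zero G hd hfl => exact ⟨isKFlat_of_d_eq_zero O G hd hfl, hfl⟩
  | cone φ _ _ ih1 ih2 =>
    exact ⟨(isKFlat_cone_two_of_three O φ).1 ih1.1 ih2.1, isFlat_cone_X O φ ih1.2 ih2.2⟩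
  | colim D _ ih =>
    exact ⟨isKFlat_colimit O D (fun k => (ih k).1), fun n => isFlat_colimit_X O D n (fun k => (ih k).2 n)⟩
  | iso e _ ih =>
    exact ⟨isKFlat_of_iso O e ih.1, fun n =>
      Groth.Agent.S6146.isFlat_of_iso ((HomologicalComplex.eval _ _ n).mapIso e) (ih.2 n)⟩

/-- existence of cellular resolutions -/
theorem exists_cell_resolution (G : CochainComplex (ModSite.Mod O) ℤ) :
    ∃ (K : CochainComplex (ModSite.Mod O) ℤ) (q : K ⟶ G), Cell O K ∧ QuasiIso q := by
  obtain ⟨K, q, h1, _, h3, _⟩ := exists_resolution (Fl := fun M : ModSite.Mod O => ModSite.IsFlat M)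
    (fun M => Groth.Agent.Lib.Helper5.TensorFlat.exists_flat_epi M) G
    (fun K => Cell O K) (fun G hd hfl => Cell.zero G hd hfl)
    (fun φ h1 h2 => Cell.cone φ h1 h2)
    (fun φ h1 h2 => isFlat_cone_X O φ h1 h2)
    (fun D hD => Cell.colim D hD)
    (fun D n hD => isFlat_colimit_X O D n hD)
  exact ⟨K, q, h1, h3⟩

end Groth.Agent.Lib.Helper5.KFlatSiteQ
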