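import Mathlib
import Groth.Agent.Lib.Helper5.Misc.TensorSES

/-!
# Pure subobjects and flat quotients (helper5)
-/
set_option autoImplicit false
set_option linter.unusedSectionVars false
set_option linter.unusedVariables false
set_option linter.style.haveILetI false
universe v' u' v u
open CategoryTheory CategoryTheory.Limits

namespace Groth.Agent.Lib.Helper5.Pure

open Groth.Agent.Lib.Helper5.TensorSES

section General

variable {𝒜 : Type u} [Category.{v} 𝒜] [Abelian 𝒜] {ℬ : Type u'} [Category.{v'} ℬ] [Abelian ℬ]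

/-- if `G(A) → G(B) → G(C')` is exact, `B → C'` factors as `e ≫ ι` with `G(e)` epi and
`f ≫ e = 0`, then `G(ι)` is a monomorphism -/
lemma mono_map_of_exact (G : 𝒜 ⥤ ℬ) [G.PreservesZeroMorphisms] {A B K C' : 𝒜} (f : A ⟶ B)
    (e : B ⟶ K) (ι : K ⟶ C') [Epi (G.map e)] (hfe : f ≫ e = 0)
    (hex : (ShortComplex.mk (G.map f) (G.map (e ≫ ι))
      (by rw [← G.map_comp, ← Category.assoc, hfe, zero_comp, G.map_zero])).Exact) :
    Mono (G.map ι) := by
  rw [Preadditive.mono_iff_cancel_zero]
  intro W x hx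
  obtain ⟨W', π, hπ, y, hy⟩ := surjective_up_to_refinements_of_epi (G.map e) x
  have hy0 : y ≫ G.map (e ≫ ι) = 0 := by
    rw [G.map_comp, ← Category.assoc, ← hy, Category.assoc, hx, comp_zero]
  obtain ⟨W'', π', hπ', z, hz⟩ := hex.exact_up_to_refinements y hy0
  dsimp only at hz
  have hfin : (π' ≫ π) ≫ x = 0 := by
    rw [Category.assoc, hy, ← Category.assoc, hz, Category.assoc, ← G.map_comp, hfe, G.map_zero,
      comp_zero]
  haveI : Epi (π' ≫ π) := epi_comp _ _
  exact (cancel_epi (π' ≫ π)).1 (hfin.trans comp_zero.symm)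

end General

variable {C : Type u} [SmallCategory C] {J : GrothendieckTopology C} {O : Sheaf J CommRingCat.{u}}

/-- the quotient of a flat module by a pure submodule is flat -/
theorem isFlat_X₃_of_pure (S : ShortComplex (ModSite.Mod O)) (hS : S.ShortExact)
    (h₂ : ModSite.IsFlat S.X₂)
    (hp : ∀ G : ModSite.Mod O, Mono (((ModSite.tensorBi O).flip.obj G).map S.f)) :
    ModSite.IsFlat S.X₃ := by
  apply isFlat_of_mono
  intro R hR
  let T := ModSite.tensorBi O
  let v : R.map (T.obj S.X₁) ⟶ R.map (T.obj S.X₂) := R.mapNatTrans (T.map S.f)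
  let p : R.map (T.obj S.X₂) ⟶ R.map (T.obj S.X₃) := R.mapNatTrans (T.map S.g)
  have hab : T.map S.f ≫ T.map S.g = 0 := by
    rw [← T.map_comp, S.zero, T.map_zero]
  have happ : ∀ X, (T.map S.f).app X ≫ (T.map S.g).app X = 0 := fun X => by
    rw [← NatTrans.comp_app, hab]; rfl
  have w : v ≫ p = 0 := ShortComplex.hom_ext _ _ (happ _) (happ _) (happ _)
  have h1 := (Functor.preservesFiniteColimits_iff_forall_exact_map_and_epi (T.obj S.X₁)).mp
    inferInstance R hR
  have hX₂ : PreservesFiniteLimits (T.obj S.X₂) := (isFlat_iff' S.X₂).mp h₂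
  have h2 := (Functor.preservesFiniteLimits_iff_forall_exact_map_and_mono (T.obj S.X₂)).mp
    hX₂ R hR
  haveI : Epi (R.map (T.obj S.X₁)).g := h1.2
  haveI : Mono (R.map (T.obj S.X₂)).f := h2.2
  have hcok : ∀ X : ModSite.Mod O, IsColimit (CokernelCofork.ofπ ((T.map S.g).app X)
      (happ X)) := by
    intro X
    have hc : IsColimit (CokernelCofork.ofπ S.g S.zero) := hS.gIsCokernel
    exact CokernelCofork.mapIsColimit _ hc (T.flip.obj X)
  haveI : Mono v.τ₃ := hp R.X₃
  exact Groth.Agent.Lib.Helper5.SnakeMono.mono_L₃_f v p w h1.1 h2.1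
    (hcok R.X₁) (hcok R.X₂) (hcok R.X₃)

end Groth.Agent.Lib.Helper5.Pure
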