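import Mathlib
import Groth.Agent.Lib.Helper5.KFlatSite2.Two
import Groth.Agent.Lib.Helper5.Misc.KFlatGen
import Groth.Agent.Lib.Helper5.Misc.TensorSES

set_option autoImplicit false
set_option linter.unusedSectionVars false
set_option linter.unusedVariables false
set_option linter.style.haveILetI false
universe u
open CategoryTheory CategoryTheory.Limits HomologicalComplex
attribute [local instance] HasDerivedCategory.standard

namespace Groth.Agent.Lib.Helper5.KFlatSiteQ

open Groth.Agent.Lib.Helper5.KFlatG Groth.Agent.Lib.Helper5.Misc.KFlatSite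
  Groth.Agent.Lib.Helper5.TensorSES Groth.Agent.Lib.Helper5.TensorSheaf
  Groth.Agent.Lib.Helper5.Misc.KFlatGen

variable {C : Type u} [SmallCategory C] {J : GrothendieckTopology C} (O : Sheaf J CommRingCat.{u})

/-- an acyclic K-flat complex tensored with anything (on the left) is acyclic -/
theorem acyc_of_acyc_isKFlat {K : CochainComplex (ModSite.Mod O) ℤ} (hK : ModSite.IsKFlat K)
    (hac : ∀ i, IsZero (K.homology i)) (L : CochainComplex (ModSite.Mod O) ℤ) (i : ℤ) :
    IsZero ((((ModSite.tensorCx O).obj L).obj K).homology i) := by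
  obtain ⟨P, p, hP, _, hp, _⟩ := exists_isKFlat_resolution O L
  haveI h1 : QuasiIso (((ModSite.tensorCx O).map p).app K) := quasiIso_tensor_right O hK p hp
  have h2 := acyc_tensor_left O hP K hac i
  haveI : IsIso (homologyMap (((ModSite.tensorCx O).map p).app K) i) :=
    (quasiIsoAt_iff_isIso_homologyMap _ i).1 (h1.quasiIsoAt i)
  exact h2.of_iso (asIso (homologyMap (((ModSite.tensorCx O).map p).app K) i)).symm

/-- same with the K-flat acyclic complex on the left -/
theorem acyc_of_acyc_isKFlat' {K : CochainComplex (ModSite.Mod O) ℤ} (hK : ModSite.IsKFlat K)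
    (hac : ∀ i, IsZero (K.homology i)) (L : CochainComplex (ModSite.Mod O) ℤ) (i : ℤ) :
    IsZero ((((ModSite.tensorCx O).obj K).obj L).homology i) :=
  acyclic_of_iso (braid (ModSite.tensorBi O) (flipIso O) L K)
    (acyc_of_acyc_isKFlat O hK hac L) i

section Conc

universe v' u'
variable {A : Type u'} [Category.{v'} A] [Abelian A]
variable (T : A ⥤ A ⥤ A) [T.PreservesZeroMorphisms] [∀ X, (T.obj X).PreservesZeroMorphisms]
  [∀ (K₁ K₂ : CochainComplex A ℤ), HasMapBifunctor K₁ K₂ T (ComplexShape.up ℤ)]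
  (F Q : CochainComplex A ℤ) (a : ℤ) (hz : ∀ n, n ≠ a → IsZero (Q.X n))

include hz in
/-- converse of `acyclic_concentrated` -/
theorem exact_of_acyclic_concentrated
    (hac : ∀ n : ℤ, IsZero ((mapBifunctor F Q T (ComplexShape.up ℤ)).homology n)) (p : ℤ) :
    (ShortComplex.mk ((T.map (F.d (p - 1) p)).app (Q.X a))
      ((T.map (F.d p (p + 1))).app (Q.X a))
      (by rw [← NatTrans.comp_app, ← T.map_comp, F.d_comp_d, T.map_zero, zero_app])).Exact := by
  have hn := hac (p + a)
  rw [← exactAt_iff_isZero_homology,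
    (mapBifunctor F Q T (ComplexShape.up ℤ)).exactAt_iff' (p + a - 1) (p + a) (p + a + 1)
      (by simp) (by simp)] at hn
  have h0 : (p - 1) + a = p + a - 1 := by omega
  have h1 : p + a = p + a := rfl
  have h2 : (p + 1) + a = p + a + 1 := by omega
  have i0 := isIso_ι_concentrated T F Q a hz (p - 1) (p + a - 1) h0
  have i1 := isIso_ι_concentrated T F Q a hz p (p + a) h1
  have i2 := isIso_ι_concentrated T F Q a hz (p + 1) (p + a + 1) h2
  refine (ShortComplex.exact_iff_of_iso ?_).2 hn
  refine ShortComplex.isoMk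
    (@asIso _ _ _ _ (ιMapBifunctor F Q T (ComplexShape.up ℤ) (p - 1) a (p + a - 1) h0) i0)
    (@asIso _ _ _ _ (ιMapBifunctor F Q T (ComplexShape.up ℤ) p a (p + a) h1) i1)
    (@asIso _ _ _ _ (ιMapBifunctor F Q T (ComplexShape.up ℤ) (p + 1) a (p + a + 1) h2) i2) ?_ ?_
  · exact (ι_d_concentrated' T F Q a hz (p - 1) p (p + a - 1) (p + a) (by omega) (by omega) h0 h1)
  · exact (ι_d_concentrated' T F Q a hz p (p + 1) (p + a) (p + a + 1) rfl rfl h1 h2)

end Conc

/-- for an acyclic K-flat complex `K`, the complex `K^• ⊗ M` is exact for every module `M` -/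
theorem exact_tensor_of_acyc_isKFlat {K : CochainComplex (ModSite.Mod O) ℤ}
    (hK : ModSite.IsKFlat K) (hac : ∀ i, IsZero (K.homology i)) (M : ModSite.Mod O) (p : ℤ) :
    (ShortComplex.mk (((ModSite.tensorBi O).flip.obj M).map (K.d (p - 1) p))
      (((ModSite.tensorBi O).flip.obj M).map (K.d p (p + 1)))
      (by rw [← Functor.map_comp, K.d_comp_d, Functor.map_zero])).Exact := by
  have hz : ∀ n : ℤ, n ≠ 0 →
      IsZero (((HomologicalComplex.single (ModSite.Mod O) (ComplexShape.up ℤ) 0).obj M).X n) :=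
    fun n hn => HomologicalComplex.isZero_single_obj_X _ _ _ _ hn
  have h := exact_of_acyclic_concentrated (ModSite.tensorBi O) K
    ((HomologicalComplex.single (ModSite.Mod O) (ComplexShape.up ℤ) 0).obj M) 0 hz
    (acyc_of_acyc_isKFlat' O hK hac _) p
  let e : ((HomologicalComplex.single (ModSite.Mod O) (ComplexShape.up ℤ) 0).obj M).X 0 ≅ M :=
    HomologicalComplex.singleObjXSelf _ _ _
  refine (ShortComplex.exact_iff_of_iso ?_).1 h
  refine ShortComplex.isoMk (((ModSite.tensorBi O).obj _).mapIso e)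
    (((ModSite.tensorBi O).obj _).mapIso e) (((ModSite.tensorBi O).obj _).mapIso e) ?_ ?_
  · exact ((ModSite.tensorBi O).map (K.d (p - 1) p)).naturality e.hom
  · exact ((ModSite.tensorBi O).map (K.d p (p + 1))).naturality e.hom

/-- for an acyclic K-flat complex, the inclusion of the cycles is universally injective -/
theorem mono_tensor_iCycles {K : CochainComplex (ModSite.Mod O) ℤ}
    (hK : ModSite.IsKFlat K) (hac : ∀ i, IsZero (K.homology i)) (M : ModSite.Mod O) (n : ℤ) :
    Mono (((ModSite.tensorBi O).flip.obj M).map (K.iCycles n)) := by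
  set G := (ModSite.tensorBi O).flip.obj M with hG
  -- `toCycles (n-1) n` is an epimorphism since `K` is exact at `n`
  have hex : K.ExactAt n := (exactAt_iff_isZero_homology _ _).2 (hac n)
  haveI hepi : Epi (K.toCycles (n - 1) n) := by
    have h1 := (K.exactAt_iff' (n - 1) n (n + 1) (by simp) (by simp)).1 hex
    rw [ShortComplex.exact_iff_epi_toCycles] at h1
    have h2 : K.toCycles (n - 1) n ≫
        (K.cyclesIsoSc' (n - 1) n (n + 1) (by simp) (by simp)).hom =
          (K.sc' (n - 1) n (n + 1)).toCycles :=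
      K.toCycles_cyclesIsoSc'_hom (n - 1) n (n + 1) (by simp) (by simp)
    have h3 : Epi (K.toCycles (n - 1) n ≫
        (K.cyclesIsoSc' (n - 1) n (n + 1) (by simp) (by simp)).hom) := by
      rw [h2]; exact h1
    exact (epi_comp_iff_of_isIso _ _).1 h3
  haveI : Epi (G.map (K.toCycles (n - 1) n)) := inferInstance
  have hE := exact_tensor_of_acyc_isKFlat O hK hac M (n - 1)
  rw [Preadditive.mono_iff_cancel_zero]
  intro W x hx
  obtain ⟨W', π, hπ, y, hy⟩ := surjective_up_to_refinements_of_epi (G.map (K.toCycles (n - 1) n)) x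
  have hy0 : y ≫ G.map (K.d (n - 1) (n - 1 + 1)) = 0 := by
    have hd : K.d (n - 1) (n - 1 + 1) = K.toCycles (n - 1) n ≫ K.iCycles n ≫
        (K.XIsoOfEq (by omega : n = n - 1 + 1)).hom := by
      rw [← Category.assoc, K.toCycles_i, K.d_comp_XIsoOfEq_hom]
    rw [hd, Functor.map_comp, Functor.map_comp, ← Category.assoc, ← hy, Category.assoc,
      ← Category.assoc x, hx, zero_comp, comp_zero]
  obtain ⟨W'', π', hπ', z, hz⟩ := hE.exact_up_to_refinements y hy0
  have h0 : K.d (n - 1 - 1) (n - 1) ≫ K.toCycles (n - 1) n = 0 := by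
    rw [← cancel_mono (K.iCycles n), Category.assoc, K.toCycles_i, K.d_comp_d, zero_comp]
  have hfin : (π' ≫ π) ≫ x = 0 := by
    rw [Category.assoc, hy, ← Category.assoc, hz]
    dsimp only
    rw [Category.assoc, ← Functor.map_comp, h0, Functor.map_zero, comp_zero]
  haveI : Epi (π' ≫ π) := epi_comp _ _
  exact (cancel_epi (π' ≫ π)).1 (hfin.trans comp_zero.symm)

/-- the cycles of an acyclic K-flat complex with flat terms are flat -/
theorem isFlat_cycles {K : CochainComplex (ModSite.Mod O) ℤ}
    (hK : ModSite.IsKFlat K) (hac : ∀ i, IsZero (K.homology i))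
    (hfl : ∀ i : ℤ, ModSite.IsFlat (K.X i)) (n : ℤ) : ModSite.IsFlat (K.cycles n) := by
  apply isFlat_of_mono
  intro R hR
  haveI : Mono R.f := hR.mono_f
  have hnat : ((ModSite.tensorBi O).obj (K.cycles n)).map R.f ≫
      ((ModSite.tensorBi O).map (K.iCycles n)).app R.X₂ =
      ((ModSite.tensorBi O).map (K.iCycles n)).app R.X₁ ≫
        ((ModSite.tensorBi O).obj (K.X n)).map R.f :=
    ((ModSite.tensorBi O).map (K.iCycles n)).naturality R.f
  haveI m1 : Mono (((ModSite.tensorBi O).map (K.iCycles n)).app R.X₁) :=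
    mono_tensor_iCycles O hK hac R.X₁ n
  haveI m2 : Mono (((ModSite.tensorBi O).obj (K.X n)).map R.f) :=
    mono_obj_map_of_isFlat _ (hfl n) _
  haveI : Mono (((ModSite.tensorBi O).obj (K.cycles n)).map R.f ≫
      ((ModSite.tensorBi O).map (K.iCycles n)).app R.X₂) := by
    rw [hnat]; exact mono_comp _ _
  exact mono_of_mono _ (((ModSite.tensorBi O).map (K.iCycles n)).app R.X₂)

end Groth.Agent.Lib.Helper5.KFlatSiteQ
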