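import Mathlib
import Groth.Agent.Lib.Helper5.KFlatSite2.Cycles
import Groth.Agent.Lib.Helper5.TorAmp.FlatAcyc

set_option autoImplicit false
set_option linter.unusedSectionVars false
set_option linter.unusedVariables false
set_option linter.style.haveILetI false
universe u
open CategoryTheory CategoryTheory.Limits HomologicalComplex
attribute [local instance] HasDerivedCategory.standard

namespace Groth.Agent.Lib.Helper5.KFlatSiteQ

open Groth.Agent.Lib.Helper5.KFlatG Groth.Agent.Lib.Helper5.Misc.KFlatSite
  Groth.Agent.Lib.Helper5.TensorSES Groth.Agent.Lib.Helper5.TensorSheaf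
  Groth.Agent.Lib.Helper5.Misc.KFlatGen

variable {C : Type u} [SmallCategory C] {J : GrothendieckTopology C} (O : Sheaf J CommRingCat.{u})

/-- termwise tensoring an acyclic K-flat complex with a module gives an acyclic complex -/
theorem acyclic_map_flip_obj {K : CochainComplex (ModSite.Mod O) ℤ}
    (hK : ModSite.IsKFlat K) (hac : ∀ i, IsZero (K.homology i)) (M : ModSite.Mod O) :
    ((((ModSite.tensorBi O).flip.obj M).mapHomologicalComplex (ComplexShape.up ℤ)).obj K).Acyclic := by
  intro p
  rw [HomologicalComplex.exactAt_iff' _ (p - 1) p (p + 1) (by simp) (by simp)]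
  exact exact_tensor_of_acyc_isKFlat O hK hac M p

/-- termwise tensoring with a module preserves quasi-isomorphisms between K-flat complexes -/
theorem quasiIso_map_flip_obj {K K' : CochainComplex (ModSite.Mod O) ℤ} (f : K ⟶ K')
    (hK : ModSite.IsKFlat K) (hK' : ModSite.IsKFlat K') (hf : QuasiIso f) (M : ModSite.Mod O) :
    QuasiIso ((((ModSite.tensorBi O).flip.obj M).mapHomologicalComplex (ComplexShape.up ℤ)).map f) := by
  rw [Groth.Agent.Helper5.FlatAcyc.quasiIso_iff_acyclic_cone]
  have hc : ModSite.IsKFlat (CochainComplex.mappingCone f) :=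
    (isKFlat_cone_two_of_three O f).1 hK hK'
  have hac : (CochainComplex.mappingCone f).Acyclic :=
    (Groth.Agent.Helper5.FlatAcyc.quasiIso_iff_acyclic_cone f).1 hf
  have hac' : ∀ i, IsZero ((CochainComplex.mappingCone f).homology i) := fun i =>
    (HomologicalComplex.exactAt_iff_isZero_homology _ _).1 (hac i)
  have h1 := acyclic_map_flip_obj O hc hac' M
  intro i
  rw [HomologicalComplex.exactAt_iff_isZero_homology]
  have h2 := (HomologicalComplex.exactAt_iff_isZero_homology _ _).1 (h1 i)
  exact h2.of_iso ((HomologicalComplex.homologyFunctor _ _ i).mapIso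
    (CochainComplex.mappingCone.mapHomologicalComplexIso f ((ModSite.tensorBi O).flip.obj M))).symm

end Groth.Agent.Lib.Helper5.KFlatSiteQ
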