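import Mathlib
import Groth.Agent.Lib.Helper5.KFlatG.Factor
import Groth.Agent.Lib.Helper5.KFlatSite2.Two
import Groth.Agent.S9057

set_option autoImplicit false
set_option linter.unusedSectionVars false
set_option linter.unusedVariables false
set_option linter.style.haveILetI false
universe u
open CategoryTheory CategoryTheory.Limits HomologicalComplex MonoidalCategory
attribute [local instance] HasDerivedCategory.standard

namespace Groth.Agent.Lib.Helper5.KFlatSiteQ

open Groth.Agent.Lib.Helper5.KFlatG Groth.Agent.Lib.Helper5.Misc.KFlatSite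
  Groth.Agent.Lib.Helper5.TensorSES Groth.Agent.Lib.Helper5.TensorSheaf

variable {C : Type u} [SmallCategory C] {J : GrothendieckTopology C} (O : Sheaf J CommRingCat.{u})

theorem isKFlat_biprod (K P : CochainComplex (ModSite.Mod O) ℤ) (hK : ModSite.IsKFlat K)
    (hP : ModSite.IsKFlat P) (hPf : ∀ n, ModSite.IsFlat (P.X n)) : ModSite.IsKFlat (K ⊞ P) :=
  (Groth.Agent.S9057.result O _
    (ShortComplex.Splitting.ofHasBinaryBiproduct K P).shortExact hPf).2.1 hK hP

theorem isFlat_biprod_X (K P : CochainComplex (ModSite.Mod O) ℤ) (n : ℤ)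
    (hK : ModSite.IsFlat (K.X n)) (hP : ModSite.IsFlat (P.X n)) :
    ModSite.IsFlat ((K ⊞ P).X n) := by
  let S : ShortComplex (ModSite.Mod O) :=
    ShortComplex.mk ((biprod.inl : K ⟶ K ⊞ P).f n) ((biprod.snd : K ⊞ P ⟶ P).f n)
      (by rw [← HomologicalComplex.comp_f, biprod.inl_snd, HomologicalComplex.zero_f])
  let sp : S.Splitting :=
    { r := (biprod.fst : K ⊞ P ⟶ K).f n
      s := (biprod.inr : P ⟶ K ⊞ P).f n
      f_r := by
        show (biprod.inl : K ⟶ K ⊞ P).f n ≫ (biprod.fst : K ⊞ P ⟶ K).f n = 𝟙 _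
        rw [← HomologicalComplex.comp_f, biprod.inl_fst, HomologicalComplex.id_f]
      s_g := by
        show (biprod.inr : P ⟶ K ⊞ P).f n ≫ (biprod.snd : K ⊞ P ⟶ P).f n = 𝟙 _
        rw [← HomologicalComplex.comp_f, biprod.inr_snd, HomologicalComplex.id_f]
      id := by
        have h := congrArg (fun g : K ⊞ P ⟶ K ⊞ P => g.f n)
          (biprod.total : biprod.fst ≫ biprod.inl + biprod.snd ≫ biprod.inr = 𝟙 (K ⊞ P))
        simp only [HomologicalComplex.add_f_apply, HomologicalComplex.comp_f,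
          HomologicalComplex.id_f] at h
        exact h }
  exact isFlat_X₂ S sp.shortExact hK hP

/-- factorisation through a K-flat complex -/
theorem exists_factor {K L : CochainComplex (ModSite.Mod O) ℤ} (a : K ⟶ L)
    (hK : ModSite.IsKFlat K) :
    ∃ (N : CochainComplex (ModSite.Mod O) ℤ) (b : K ⟶ N) (c : N ⟶ L), ModSite.IsKFlat N ∧
      ((∀ n, ModSite.IsFlat (K.X n)) → ∀ n, ModSite.IsFlat (N.X n)) ∧ QuasiIso c ∧ a = b ≫ c := by
  refine Groth.Agent.Lib.Helper5.KFlatG.exists_factor (A := ModSite.Mod O)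
    (fun K => ModSite.IsKFlat K) (fun M : ModSite.Mod O => ModSite.IsFlat M)
    ?_ ?_ ?_ ?_ ?_ K L a hK
  · exact exists_isKFlat_resolution O
  · exact fun φ h1 h2 => (isKFlat_cone_two_of_three O φ).1 h1 h2
  · exact fun φ h1 h2 => isFlat_cone_X O φ h1 h2
  · exact isKFlat_biprod O
  · exact isFlat_biprod_X O

end Groth.Agent.Lib.Helper5.KFlatSiteQ
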