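import Mathlib
import Groth.Agent.Lib.Helper5.KFlatSite2.StalkFlatC
import Groth.Agent.Lib.Helper5.KFlatSite2.Factor

set_option autoImplicit false
set_option linter.unusedSectionVars false
set_option linter.unusedVariables false
set_option linter.style.haveILetI false
universe u
open CategoryTheory CategoryTheory.Limits HomologicalComplex MonoidalCategory Opposite
  TopologicalSpace
attribute [local instance] HasDerivedCategory.standard

namespace Groth.Agent.Lib.Helper5.KFlatSiteQ

open Groth.Agent.Lib.Helper5.KFlatG Groth.Agent.Lib.Helper5.Misc.KFlatSite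
  Groth.Agent.Lib.Helper5.TensorSES Groth.Agent.Lib.Helper5.TensorSheaf
  Groth.Agent.Lib.Helper5.StalkFlat2

variable {X : TopCat.{u}} (O : Sheaf (Opens.grothendieckTopology X) CommRingCat.{u})

/-- tensor-flat and stalkwise flat -/
def BFlat (M : ModSite.Mod O) : Prop := ModSite.IsFlat M ∧ SFlat O M

theorem bflat_cone_X {K₁ K₂ : CochainComplex (ModSite.Mod O) ℤ} (φ : K₁ ⟶ K₂)
    (h₁ : ∀ n, BFlat O (K₁.X n)) (h₂ : ∀ n, BFlat O (K₂.X n)) (n : ℤ) :
    BFlat O ((CochainComplex.mappingCone φ).X n) :=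
  ⟨isFlat_cone_X O φ (fun n => (h₁ n).1) (fun n => (h₂ n).1) n,
    sflat_of_splitting O _ (CochainComplex.mappingCone.triangleRotateShortComplexSplitting φ n)
      (h₂ n).2 (h₁ (n + 1)).2⟩

/-- existence of K-flat resolutions with tensor-flat and stalkwise flat terms -/
theorem exists_isKFlat_resolution_bflat (G : CochainComplex (ModSite.Mod O) ℤ) :
    ∃ (K : CochainComplex (ModSite.Mod O) ℤ) (q : K ⟶ G), ModSite.IsKFlat K ∧
      (∀ n : ℤ, BFlat O (K.X n)) ∧ QuasiIso q ∧ ∀ n : ℤ, Epi (q.f n) := by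
  refine exists_resolution (Fl := fun M : ModSite.Mod O => BFlat O M)
    (fun M => Groth.Agent.Lib.Helper5.StalkFlat2.exists_flat_epi O M) G
    (fun K => ModSite.IsKFlat K)
    (fun G hd hfl => isKFlat_of_d_eq_zero O G hd (fun n => (hfl n).1))
    (fun φ h1 h2 => (isKFlat_cone_two_of_three O φ).1 h1 h2)
    (fun φ h1 h2 => bflat_cone_X O φ h1 h2)
    (fun D hD => isKFlat_colimit O D hD)
    (fun D n hD => ⟨?_, ?_⟩)
  · exact isFlat_of_isColimit_nat O (D ⋙ HomologicalComplex.eval _ _ n) (fun k => (hD k).1)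
      ((HomologicalComplex.eval _ _ n).mapCocone (colimit.cocone D))
      (isColimitOfPreserves _ (colimit.isColimit D))
  · exact sflat_of_isColimit O (D ⋙ HomologicalComplex.eval _ _ n)
      ((HomologicalComplex.eval _ _ n).mapCocone (colimit.cocone D))
      (isColimitOfPreserves _ (colimit.isColimit D)) (fun k => (hD k).2)

/-- the degreewise split short exact sequence of a biproduct of complexes -/
noncomputable def biprodSC (K P : CochainComplex (ModSite.Mod O) ℤ) (n : ℤ) :
    ShortComplex (ModSite.Mod O) :=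
  ShortComplex.mk ((biprod.inl : K ⟶ K ⊞ P).f n) ((biprod.snd : K ⊞ P ⟶ P).f n)
    (by rw [← HomologicalComplex.comp_f, biprod.inl_snd, HomologicalComplex.zero_f])

/-- its splitting -/
noncomputable def biprodSplitting (K P : CochainComplex (ModSite.Mod O) ℤ) (n : ℤ) :
    (biprodSC O K P n).Splitting where
  r := (biprod.fst : K ⊞ P ⟶ K).f n
  s := (biprod.inr : P ⟶ K ⊞ P).f n
  f_r := by
    show (biprod.inl : K ⟶ K ⊞ P).f n ≫ (biprod.fst : K ⊞ P ⟶ K).f n = 𝟙 _
    rw [← HomologicalComplex.comp_f, biprod.inl_fst, HomologicalComplex.id_f]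
  s_g := by
    show (biprod.inr : P ⟶ K ⊞ P).f n ≫ (biprod.snd : K ⊞ P ⟶ P).f n = 𝟙 _
    rw [← HomologicalComplex.comp_f, biprod.inr_snd, HomologicalComplex.id_f]
  id := by
    have h := congrArg (fun g : K ⊞ P ⟶ K ⊞ P => g.f n)
      (biprod.total : biprod.fst ≫ biprod.inl + biprod.snd ≫ biprod.inr = 𝟙 (K ⊞ P))
    simp only [HomologicalComplex.add_f_apply, HomologicalComplex.comp_f,
      HomologicalComplex.id_f] at h
    exact h

theorem bflat_biprod_X (K P : CochainComplex (ModSite.Mod O) ℤ) (n : ℤ)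
    (hK : BFlat O (K.X n)) (hP : BFlat O (P.X n)) : BFlat O ((K ⊞ P).X n) :=
  ⟨isFlat_X₂ (biprodSC O K P n) (biprodSplitting O K P n).shortExact hK.1 hP.1,
    sflat_of_splitting O (biprodSC O K P n) (biprodSplitting O K P n) hK.2 hP.2⟩

/-- factorisation through a K-flat complex, keeping track of stalkwise flatness -/
theorem exists_factor_bflat {K L : CochainComplex (ModSite.Mod O) ℤ} (a : K ⟶ L)
    (hK : ModSite.IsKFlat K) :
    ∃ (N : CochainComplex (ModSite.Mod O) ℤ) (b : K ⟶ N) (c : N ⟶ L), ModSite.IsKFlat N ∧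
      ((∀ n, BFlat O (K.X n)) → ∀ n, BFlat O (N.X n)) ∧ QuasiIso c ∧ a = b ≫ c := by
  refine Groth.Agent.Lib.Helper5.KFlatG.exists_factor (A := ModSite.Mod O)
    (fun K => ModSite.IsKFlat K) (fun M : ModSite.Mod O => BFlat O M)
    ?_ ?_ ?_ ?_ ?_ K L a hK
  · exact exists_isKFlat_resolution_bflat O
  · exact fun φ h1 h2 => (isKFlat_cone_two_of_three O φ).1 h1 h2
  · exact fun φ h1 h2 => bflat_cone_X O φ h1 h2
  · exact fun K P hK hP hPf => isKFlat_biprod O K P hK hP (fun n => (hPf n).1)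
  · exact bflat_biprod_X O

end Groth.Agent.Lib.Helper5.KFlatSiteQ
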