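import Mathlib
import Groth.Prelude.Def_DTor2
import Groth.Prelude.Def_DCoh4
import Groth.Agent.Lib.Helper5.KFlatSite2.FlipQis
import Groth.Agent.Lib.Helper5.KFlatSite2.Space
import Groth.Agent.Lib.Helper5.KProj.DerHo

set_option autoImplicit false
set_option linter.unusedSectionVars false
set_option linter.unusedVariables false
set_option linter.style.haveILetI false
universe u
open CategoryTheory CategoryTheory.Limits HomologicalComplex AlgebraicGeometry
attribute [local instance] HasDerivedCategory.standard

namespace Groth.Agent.Lib.Helper5.LTM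

open Groth.Agent.Lib.Helper5.KFlatSiteQ Groth.Agent.Lib.Helper5.KProj.DerHo

variable {X : Scheme.{u}}

lemma tensorRightMod_eq (M : X.Modules) :
    DCoh.tensorRightMod M = (DCoh.tensorBi (X := X)).flip.obj M := rfl

/-- K-flat complexes are adapted to `- ⊗ M` -/
theorem adaptedCx (M : X.Modules) :
    AdaptedCx (DCoh.tensorRightMod M) (fun K : CochainComplex X.Modules ℤ => DCoh.IsKFlat K) where
  res K := by
    obtain ⟨P, p, h1, _, h3, _⟩ := exists_isKFlat_resolution (O := X.sheaf) K
    exact ⟨P, p, h1, h3⟩
  inv {K K'} f hK hK' hf :=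
    quasiIso_map_flip_obj (O := X.sheaf) f hK hK' hf M

/-- `E ⊗^L M` is computed termwise for a K-flat complex `E` -/
noncomputable def ltensorModObjIso (M : X.Modules) [DCoh.HasLTensorMod M]
    (E : CochainComplex X.Modules ℤ) (hE : DCoh.IsKFlat E) :
    (DCoh.LTensorMod M).obj (DCoh.toD X E) ≅
      DCoh.toD X (((DCoh.tensorRightMod M).mapHomologicalComplex (ComplexShape.up ℤ)).obj E) :=
  totalObjIso (adaptedCx M) E hE

/-- the derived tensor product with a module always exists -/
theorem hasLTensorMod (M : X.Modules) : DCoh.HasLTensorMod M :=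
  hasLeftDerivedFunctor (adaptedCx M)

end Groth.Agent.Lib.Helper5.LTM
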