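import Mathlib
import Groth.Agent.Lib.Helper5.KFlatSite2.LTM
import Groth.Agent.Lib.Helper5.Misc.StalkFlatSch

set_option autoImplicit false
set_option linter.unusedSectionVars false
set_option linter.unusedVariables false
set_option linter.style.haveILetI false
universe u
open CategoryTheory CategoryTheory.Limits HomologicalComplex AlgebraicGeometry
attribute [local instance] HasDerivedCategory.standard

namespace Groth.Agent.Lib.Helper5.LTM

open Groth.Agent.Lib.Helper5.KFlatSiteQ Groth.Agent.Lib.Helper5.KProj.DerHo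
  Groth.Agent.Lib.Helper5.Misc.KFlatSite

variable {X : Scheme.{u}}

lemma isZero_of_retract {C : Type*} [Category C] [HasZeroMorphisms C] {A B : C} (i : A ⟶ B)
    (r : B ⟶ A) (h : i ≫ r = 𝟙 A) (hB : IsZero B) : IsZero A := by
  rw [IsZero.iff_id_eq_zero, ← h, hB.eq_of_tgt i 0, zero_comp]

/-- a bounded above complex of stalkwise flat modules is K-flat -/
theorem isKFlat_of_vanishes {E : CochainComplex X.Modules ℤ} {a b : ℤ}
    (hE : DCoh.VanishesOutside E a b) (hfl : ∀ i : ℤ, FlatMod.IsFlat (E.X i)) : DCoh.IsKFlat E := by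
  have hb : E.IsStrictlyLE b := by
    rw [CochainComplex.isStrictlyLE_iff]
    exact fun i hi => hE i (Or.inr hi)
  exact isKFlat_of_bounded_above (O := X.sheaf) E b hb
    (fun n => Groth.Agent.Lib.Helper5.Misc.StalkFlatSch.isFlat_of_flatMod (E.X n) (hfl n))

/-- the homology of `Q E` in a degree where `E` vanishes -/
lemma isZero_HD_toD_of_isZero (E : CochainComplex X.Modules ℤ) (i : ℤ) (h : IsZero (E.X i)) :
    IsZero (DCoh.HD (DCoh.toD X E) i) := by
  have h1 : IsZero (E.homology i) := ShortComplex.isZero_homology_of_isZero_X₂ _ h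
  exact h1.of_iso ((DerivedCategory.homologyFunctorFactors X.Modules i).app E)

/-- flat amplitude implies tor amplitude -/
theorem isZero_HD_ltensor_of_flat (E : CochainComplex X.Modules ℤ) (a b : ℤ)
    (hE : DCoh.VanishesOutside E a b) (hfl : ∀ i : ℤ, FlatMod.IsFlat (E.X i))
    (F : X.Modules) [DCoh.HasLTensorMod F] (i : ℤ) (hi : i < a ∨ b < i) :
    IsZero (DCoh.HD ((DCoh.LTensorMod F).obj (DCoh.toD X E)) i) := by
  have e := ltensorModObjIso F E (isKFlat_of_vanishes hE hfl)
  refine IsZero.of_iso ?_ ((DerivedCategory.homologyFunctor X.Modules i).mapIso e)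
  apply isZero_HD_toD_of_isZero
  exact Functor.map_isZero (DCoh.tensorRightMod F) (hE i hi)

theorem hasTorAmplitudeIn_of_hasFlatAmplitudeIn {K : DCoh.D X} {a b : ℤ}
    (h : DCoh.HasFlatAmplitudeIn a b K) : DCoh.HasTorAmplitudeIn a b K := by
  obtain ⟨E, hE, hfl, ⟨e⟩⟩ := h
  intro F _ i hi
  exact (isZero_HD_ltensor_of_flat E a b hE hfl F i hi).of_iso
    ((DerivedCategory.homologyFunctor X.Modules i).mapIso ((DCoh.LTensorMod F).mapIso e.symm))

/-- tor amplitude passes to retracts -/
theorem hasTorAmplitudeIn_of_retract {K K' : DCoh.D X} {a b : ℤ} (i : K ⟶ K') (r : K' ⟶ K)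
    (h : i ≫ r = 𝟙 K) (hK' : DCoh.HasTorAmplitudeIn a b K') : DCoh.HasTorAmplitudeIn a b K := by
  intro F _ n hn
  refine isZero_of_retract
    ((DerivedCategory.homologyFunctor X.Modules n).map ((DCoh.LTensorMod F).map i))
    ((DerivedCategory.homologyFunctor X.Modules n).map ((DCoh.LTensorMod F).map r)) ?_
    (hK' F n hn)
  rw [← CategoryTheory.Functor.map_comp, ← CategoryTheory.Functor.map_comp, h,
    CategoryTheory.Functor.map_id, CategoryTheory.Functor.map_id]

end Groth.Agent.Lib.Helper5.LTM
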