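import Mathlib
import Groth.Agent.Lib.Helper5.KFlatSite2.Pure
import Groth.Agent.Lib.Helper5.KFlatSite2.SkyFlat
import Groth.Agent.Lib.Helper5.KFlatSite2.TorAmpD

set_option autoImplicit false
set_option linter.unusedSectionVars false
set_option linter.unusedVariables false
set_option linter.style.haveILetI false
universe u
open CategoryTheory CategoryTheory.Limits HomologicalComplex AlgebraicGeometry
attribute [local instance] HasDerivedCategory.standard

namespace Groth.Agent.Lib.Helper5.Pure

open Groth.Agent.Lib.Helper5.TensorSES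

section Site

variable {C : Type u} [SmallCategory C] {J : GrothendieckTopology C} {O : Sheaf J CommRingCat.{u}}

/-- if `E^{a-2} ⊗ G → E^{a-1} ⊗ G → E^a ⊗ G` is exact for every `G` and `E^a` is flat, then the
cokernel of `E^{a-1} → E^a` is flat -/
theorem isFlat_cokernel_of_exact (E : CochainComplex (ModSite.Mod O) ℤ) (a : ℤ)
    (hfl : ModSite.IsFlat (E.X a))
    (hex : ∀ G : ModSite.Mod O,
      (ShortComplex.mk (((ModSite.tensorBi O).flip.obj G).map (E.d (a - 2) (a - 1)))
        (((ModSite.tensorBi O).flip.obj G).map (E.d (a - 1) a))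
        (by rw [← Functor.map_comp, E.d_comp_d, Functor.map_zero])).Exact) :
    ModSite.IsFlat (cokernel (E.d (a - 1) a)) := by
  let d := E.d (a - 1) a
  let S : ShortComplex (ModSite.Mod O) :=
    ShortComplex.mk (Abelian.image.ι d) (cokernel.π d) (kernel.condition _)
  have hS : S.ShortExact :=
    { exact := ShortComplex.exact_of_f_is_kernel _ (kernelIsKernel (cokernel.π d))
      mono_f := inferInstanceAs (Mono (kernel.ι (cokernel.π d)))
      epi_g := inferInstanceAs (Epi (cokernel.π d)) }
  have hfe : E.d (a - 2) (a - 1) ≫ Abelian.factorThruImage d = 0 := by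
    rw [← cancel_mono (Abelian.image.ι d), Category.assoc, Abelian.image.fac, zero_comp]
    exact E.d_comp_d _ _ _
  refine isFlat_X₃_of_pure S hS hfl (fun G => ?_)
  haveI : Epi (((ModSite.tensorBi O).flip.obj G).map (Abelian.factorThruImage d)) :=
    inferInstance
  refine mono_map_of_exact ((ModSite.tensorBi O).flip.obj G) (E.d (a - 2) (a - 1))
    (Abelian.factorThruImage d) (Abelian.image.ι d) hfe ?_
  have h := hex G
  have hd : Abelian.factorThruImage d ≫ Abelian.image.ι d = E.d (a - 1) a :=
    Abelian.image.fac d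
  have key : ∀ (g : E.X (a - 1) ⟶ E.X a) (hg : g = E.d (a - 1) a)
      (w : ((ModSite.tensorBi O).flip.obj G).map (E.d (a - 2) (a - 1)) ≫
        ((ModSite.tensorBi O).flip.obj G).map g = 0),
      (ShortComplex.mk (((ModSite.tensorBi O).flip.obj G).map (E.d (a - 2) (a - 1)))
        (((ModSite.tensorBi O).flip.obj G).map g) w).Exact := by
    intro g hg w
    subst hg
    exact h
  exact key _ hd _

end Site

section Scheme

open Groth.Agent.Lib.Helper5.LTM Groth.Agent.Lib.Helper5.Misc.KFlatSite

variable {X : Scheme.{u}}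

/-- tensor-flat implies stalkwise flat on a scheme -/
theorem flatMod_of_isFlat (M : X.Modules) (hM : ModSite.IsFlat (O := X.sheaf) M) :
    FlatMod.IsFlat M :=
  fun x => Groth.Agent.Lib.Helper5.Sky.sflat_of_isFlat (O := X.sheaf) M hM x

/-- vanishing of the cohomology of `E ⊗^L G` for a K-flat complex `E` gives exactness of `E ⊗ G` -/
theorem exact_of_isZero_HD_ltensor (E : CochainComplex X.Modules ℤ) (hE : DCoh.IsKFlat E)
    (G : X.Modules) [DCoh.HasLTensorMod G] (i : ℤ)
    (h : IsZero (DCoh.HD ((DCoh.LTensorMod G).obj (DCoh.toD X E)) i)) :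
    (ShortComplex.mk (((DCoh.tensorBi (X := X)).flip.obj G).map (E.d (i - 1) i))
      (((DCoh.tensorBi (X := X)).flip.obj G).map (E.d i (i + 1)))
      (by rw [← Functor.map_comp, E.d_comp_d, Functor.map_zero])).Exact := by
  have e := ltensorModObjIso G E hE
  have h1 : IsZero ((((DCoh.tensorRightMod G).mapHomologicalComplex
      (ComplexShape.up ℤ)).obj E).homology i) :=
    (h.of_iso ((DerivedCategory.homologyFunctor X.Modules i).mapIso e.symm)).of_iso
      ((DerivedCategory.homologyFunctorFactors X.Modules i).app _).symm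
  have h2 := (HomologicalComplex.exactAt_iff_isZero_homology _ _).2 h1
  rw [HomologicalComplex.exactAt_iff' _ (i - 1) i (i + 1) (by simp) (by simp)] at h2
  exact h2

theorem cokernel_flat_of_torAmplitude (E : CochainComplex X.Modules ℤ) (n : ℤ)
    (hn : E.IsStrictlyLE n) (hflat : ∀ i : ℤ, FlatMod.IsFlat (E.X i))
    (hL : ∀ G : X.Modules, DCoh.HasLTensorMod G) (a b : ℤ)
    (hE : DCoh.HasTorAmplitudeIn a b (DCoh.toD X E)) :
    FlatMod.IsFlat (cokernel (E.d (a - 1) a)) := by
  have hfl' : ∀ i, ModSite.IsFlat (O := X.sheaf) (E.X i) := fun i =>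
    Groth.Agent.Lib.Helper5.Misc.StalkFlatSch.isFlat_of_flatMod (E.X i) (hflat i)
  have hK : DCoh.IsKFlat E := isKFlat_of_bounded_above (O := X.sheaf) E n hn hfl'
  apply flatMod_of_isFlat
  refine isFlat_cokernel_of_exact (O := X.sheaf) E a (hfl' a) (fun G => ?_)
  haveI := hL G
  have h := exact_of_isZero_HD_ltensor E hK G (a - 1) (hE G (a - 1) (Or.inl (by omega)))
  have e1 : a - 1 - 1 = a - 2 := by omega
  have e2 : a - 1 + 1 = a := by omega
  rw [e1] at h
  -- transport along `a - 1 + 1 = a`
  have key : ∀ (c : ℤ) (hc : c = a)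
      (w : ((DCoh.tensorBi (X := X)).flip.obj G).map (E.d (a - 2) (a - 1)) ≫
        ((DCoh.tensorBi (X := X)).flip.obj G).map (E.d (a - 1) c) = 0),
      (ShortComplex.mk (((DCoh.tensorBi (X := X)).flip.obj G).map (E.d (a - 2) (a - 1)))
        (((DCoh.tensorBi (X := X)).flip.obj G).map (E.d (a - 1) c)) w).Exact →
      (ShortComplex.mk (((DCoh.tensorBi (X := X)).flip.obj G).map (E.d (a - 2) (a - 1)))
        (((DCoh.tensorBi (X := X)).flip.obj G).map (E.d (a - 1) a))
        (by rw [← Functor.map_comp, E.d_comp_d, Functor.map_zero])).Exact := by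
    intro c hc w hw
    subst hc
    exact hw
  exact key _ e2 _ h

end Scheme

end Groth.Agent.Lib.Helper5.Pure
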