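import Mathlib
import Groth.Agent.Lib.Helper5.Misc.TensorSheaf

/-!
# The right unit isomorphism of the tensor product of sheaves of modules (helper5)
-/
set_option autoImplicit false
set_option linter.unusedSectionVars false
set_option linter.unusedVariables false
set_option linter.style.haveILetI false
universe u
open CategoryTheory CategoryTheory.Limits MonoidalCategory Opposite

namespace Groth.Agent.Lib.Helper5.TensorUnit

open Groth.Agent.Lib.Helper5.TensorSheaf

variable {C : Type u} [SmallCategory C] {J : GrothendieckTopology C} (O : Sheaf J CommRingCat.{u})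

lemma fgt_unit : (fgt O).obj (ModSite.unit O) = 𝟙_ (PM O) := rfl

/-- `N ⊗ O ≅ N` -/
noncomputable def unitIsoApp (N : ModSite.Mod O) :
    ((ModSite.tensorBi O).flip.obj (ModSite.unit O)).obj N ≅ N :=
  (shf O).mapIso (ρ_ ((fgt O).obj N)) ≪≫
    @asIso _ _ _ _ ((adj O).counit.app N) (isIso_counit_app (O := O) N)

lemma unitIsoApp_naturality {N N' : ModSite.Mod O} (f : N ⟶ N') :
    ((ModSite.tensorBi O).flip.obj (ModSite.unit O)).map f ≫ (unitIsoApp O N').hom =
      (unitIsoApp O N).hom ≫ f := by
  show (shf O).map ((fgt O).map f ▷ (𝟙_ (PM O))) ≫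
      ((shf O).map (ρ_ ((fgt O).obj N')).hom ≫ (adj O).counit.app N') =
    ((shf O).map (ρ_ ((fgt O).obj N)).hom ≫ (adj O).counit.app N) ≫ f
  rw [← Category.assoc, ← Functor.map_comp, rightUnitor_naturality, Functor.map_comp,
    Category.assoc, Category.assoc]
  congr 1
  exact (adj O).counit.naturality f

/-- `- ⊗ O ≅ 𝟭` -/
noncomputable def unitIso : (ModSite.tensorBi O).flip.obj (ModSite.unit O) ≅ 𝟭 _ :=
  NatIso.ofComponents (unitIsoApp O) (fun f => unitIsoApp_naturality O f)

end Groth.Agent.Lib.Helper5.TensorUnit
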