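import Mathlib
import Groth.Agent.Lib.Helper5.KFlatSite2.Cell
import Groth.Agent.Lib.Helper5.KFlatG.Res2

/-!
# Bounded above cellular resolutions on a ringed site (helper5)
-/
set_option autoImplicit false
set_option linter.unusedSectionVars false
set_option linter.unusedVariables false
set_option linter.style.haveILetI false
universe u
open CategoryTheory CategoryTheory.Limits HomologicalComplex ZeroObject
attribute [local instance] HasDerivedCategory.standard

namespace Groth.Agent.Lib.Helper5.KFlatSiteQ

open Groth.Agent.Lib.Helper5.KFlatG Groth.Agent.Lib.Helper5.Misc.KFlatSite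
  Groth.Agent.Lib.Helper5.TensorSES Groth.Agent.Lib.Helper5.TensorSheaf
  Groth.Agent.Lib.Helper5.Misc.KFlatGen

variable {C : Type u} [SmallCategory C] {J : GrothendieckTopology C} (O : Sheaf J CommRingCat.{u})

/-- flat covers which are zero over zero objects -/
lemma exists_flat_epi' (M : ModSite.Mod O) :
    ∃ (F : ModSite.Mod O) (π : F ⟶ M), ModSite.IsFlat F ∧ Epi π ∧ (IsZero M → IsZero F) := by
  by_cases h : IsZero M
  · refine ⟨0, 0, Groth.Agent.S6149.isFlat_of_isZero _ (Limits.isZero_zero _), ⟨fun g g' _ => h.eq_of_src g g'⟩,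
      fun _ => Limits.isZero_zero _⟩
  · obtain ⟨F, π, h1, h2⟩ := Groth.Agent.Lib.Helper5.TensorFlat.exists_flat_epi M
    exact ⟨F, π, h1, h2, fun h' => absurd h' h⟩

/-- the covering data by flat modules, zero over zero objects -/
noncomputable def flatCov : CovData (fun M : ModSite.Mod O => ModSite.IsFlat M) where
  obj M := (exists_flat_epi' O M).choose
  π M := (exists_flat_epi' O M).choose_spec.choose
  fl M := (exists_flat_epi' O M).choose_spec.choose_spec.1
  epi M := (exists_flat_epi' O M).choose_spec.choose_spec.2.1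

lemma isZero_flatCov (M : ModSite.Mod O) (h : IsZero M) : IsZero ((flatCov O).obj M) :=
  (exists_flat_epi' O M).choose_spec.choose_spec.2.2 h

/-- existence of cellular resolutions which are bounded above -/
theorem exists_bdd_cell_resolution (G : CochainComplex (ModSite.Mod O) ℤ) (n₀ : ℤ)
    (hG : ∀ p, n₀ < p → IsZero (G.X p)) :
    ∃ (K : CochainComplex (ModSite.Mod O) ℤ) (q : K ⟶ G), Cell O K ∧ QuasiIso q ∧
      ∀ p, n₀ + 1 < p → IsZero (K.X p) := by
  obtain ⟨K, q, h1, _, h3, h4⟩ := B.exists_bdd_resolution (flatCov O) (isZero_flatCov O)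
    (fun K => Cell O K) (fun G hd hfl => Cell.zero G hd hfl)
    (fun φ h1 h2 => Cell.cone φ h1 h2)
    (fun φ h1 h2 => isFlat_cone_X O φ h1 h2)
    (fun D hD => Cell.colim D hD)
    (fun D n hD => isFlat_colimit_X O D n hD) G n₀ hG
  exact ⟨K, q, h1, h3, h4⟩

end Groth.Agent.Lib.Helper5.KFlatSiteQ
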