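import Mathlib
import Groth.Agent.Lib.Helper5.KFlatSite2.CokerFlat
import Groth.Agent.Lib.Helper5.KFlatG.BddRes

set_option autoImplicit false
set_option linter.unusedSectionVars false
set_option linter.unusedVariables false
set_option linter.style.haveILetI false
universe u
open CategoryTheory CategoryTheory.Limits HomologicalComplex AlgebraicGeometry
attribute [local instance] HasDerivedCategory.standard

namespace Groth.Agent.Lib.Helper5.Pure

open Groth.Agent.Lib.Helper5.TensorSES

section Site

variable {C : Type u} [SmallCategory C] {J : GrothendieckTopology C} {O : Sheaf J CommRingCat.{u}}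

lemma isFlat_of_iso {M M' : ModSite.Mod O} (e : M ≅ M') (h : ModSite.IsFlat M) :
    ModSite.IsFlat M' := by
  rw [isFlat_iff'] at h ⊢
  exact preservesFiniteLimits_of_natIso ((ModSite.tensorBi O).mapIso e)

/-- if `A → B → C' → M → 0` is exact at `C'` and `M`, `C'` is flat and `A ⊗ G → B ⊗ G → C' ⊗ G` is
exact for every `G`, then `M` is flat -/
theorem isFlat_of_exact_end {A B C' M : ModSite.Mod O} (f : A ⟶ B) (g : B ⟶ C') (ε : C' ⟶ M)
    [Epi ε] (w : f ≫ g = 0) (hgε : g ≫ ε = 0) (hex₀ : (ShortComplex.mk g ε hgε).Exact)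
    (hfl : ModSite.IsFlat C')
    (hex : ∀ G : ModSite.Mod O,
      (ShortComplex.mk (((ModSite.tensorBi O).flip.obj G).map f)
        (((ModSite.tensorBi O).flip.obj G).map g)
        (by rw [← Functor.map_comp, w, Functor.map_zero])).Exact) :
    ModSite.IsFlat M := by
  let S : ShortComplex (ModSite.Mod O) := ShortComplex.mk (kernel.ι ε) ε (kernel.condition _)
  have hS : S.ShortExact :=
    { exact := ShortComplex.exact_of_f_is_kernel _ (kernelIsKernel ε)
      mono_f := inferInstanceAs (Mono (kernel.ι ε))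
      epi_g := inferInstanceAs (Epi ε) }
  let e : B ⟶ kernel ε := kernel.lift ε g hgε
  haveI he : Epi e := by
    have := hex₀
    rw [ShortComplex.exact_iff_epi_kernel_lift] at this
    exact this
  have hfe : f ≫ e = 0 := by
    rw [← cancel_mono (kernel.ι ε), Category.assoc, kernel.lift_ι, zero_comp, w]
  refine isFlat_X₃_of_pure S hS hfl (fun G => ?_)
  haveI : Epi (((ModSite.tensorBi O).flip.obj G).map e) := inferInstance
  refine mono_map_of_exact ((ModSite.tensorBi O).flip.obj G) f e (kernel.ι ε) hfe ?_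
  have h := hex G
  have hd : e ≫ kernel.ι ε = g := kernel.lift_ι _ _ _
  have key : ∀ (g' : B ⟶ C') (hg : g' = g)
      (w' : ((ModSite.tensorBi O).flip.obj G).map f ≫
        ((ModSite.tensorBi O).flip.obj G).map g' = 0),
      (ShortComplex.mk (((ModSite.tensorBi O).flip.obj G).map f)
        (((ModSite.tensorBi O).flip.obj G).map g') w').Exact := by
    intro g' hg w'
    subst hg
    exact h
  exact key _ hd _

end Site

section Scheme

open Groth.Agent.Lib.Helper5.LTM Groth.Agent.Lib.Helper5.Misc.KFlatSite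
  Groth.Agent.Lib.Helper5.BddRes

variable {X : Scheme.{u}}

/-- indices-flexible version of `exact_of_isZero_HD_ltensor` -/
theorem exact_of_isZero_HD_ltensor' (E : CochainComplex X.Modules ℤ) (hE : DCoh.IsKFlat E)
    (G : X.Modules) [DCoh.HasLTensorMod G] (i j k : ℤ) (hij : i + 1 = j) (hjk : j + 1 = k)
    (h : IsZero (DCoh.HD ((DCoh.LTensorMod G).obj (DCoh.toD X E)) j)) :
    (ShortComplex.mk (((DCoh.tensorBi (X := X)).flip.obj G).map (E.d i j))
      (((DCoh.tensorBi (X := X)).flip.obj G).map (E.d j k))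
      (by rw [← Functor.map_comp, E.d_comp_d, Functor.map_zero])).Exact := by
  obtain rfl : i = j - 1 := by omega
  subst hjk
  exact exact_of_isZero_HD_ltensor E hE G j h

/-- a module placed in degree `0`, as an object of the derived category -/
noncomputable def inDIso (F : X.Modules) :
    DCoh.inD X F ≅ DCoh.toD X ((HomologicalComplex.single X.Modules (ComplexShape.up ℤ) 0).obj F) :=
  (DerivedCategory.singleFunctorIsoCompQ X.Modules 0).app F

theorem isZero_tor_one_of_flat (F : X.Modules) (hF : FlatMod.IsFlat F) (G : X.Modules)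
    [DCoh.HasLTensorMod G] :
    IsZero (DCoh.HD ((DCoh.LTensorMod G).obj (DCoh.inD X F)) (-1)) := by
  let S := (HomologicalComplex.single X.Modules (ComplexShape.up ℤ) 0).obj F
  have hz : ∀ n : ℤ, n ≠ 0 → IsZero (S.X n) := fun n hn =>
    HomologicalComplex.isZero_single_obj_X _ _ _ _ hn
  have hfl : ModSite.IsFlat (O := X.sheaf) (S.X 0) :=
    isFlat_of_iso (HomologicalComplex.singleObjXSelf (ComplexShape.up ℤ) 0 F).symm
      (Groth.Agent.Lib.Helper5.Misc.StalkFlatSch.isFlat_of_flatMod F hF)
  have hS : DCoh.IsKFlat S := isKFlat_of_concentrated (O := X.sheaf) S 0 hz hfl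
  have e := (DCoh.LTensorMod G).mapIso (inDIso F) ≪≫ ltensorModObjIso G S hS
  refine IsZero.of_iso ?_ ((DerivedCategory.homologyFunctor X.Modules (-1)).mapIso e)
  apply isZero_HD_toD_of_isZero
  exact Functor.map_isZero (DCoh.tensorRightMod G) (hz (-1) (by omega))

theorem flat_of_tor_one_vanishes (F : X.Modules)
    (hL : ∀ G : X.Modules, DCoh.HasLTensorMod G)
    (h : ∀ (G : X.Modules) [DCoh.HasLTensorMod G],
      IsZero (DCoh.HD ((DCoh.LTensorMod G).obj (DCoh.inD X F)) (-1))) :
    FlatMod.IsFlat F := by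
  have hres := @exists_bddRes X.Modules _ Scheme.Modules.instAbelian
      (fun M => ModSite.IsFlat (O := X.sheaf) M)
      (Groth.Agent.Lib.Helper5.TensorFlat.exists_flat_epi (O := X.sheaf))
      (fun _ _ e h => isFlat_of_iso e h)
      (fun Z hZ => Groth.Agent.S6149.isFlat_of_isZero Z hZ) F
  obtain ⟨E, q, ε, hε, hE0, hfl, hq, hepi, hex⟩ := hres
  have hK : DCoh.IsKFlat E := isKFlat_of_bounded_above (O := X.sheaf) E 0 hE0 hfl
  haveI : IsIso (DerivedCategory.Q.map q) :=
    (DerivedCategory.isIso_Q_map_iff_quasiIso X.Modules q).2 hq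
  let e0 : DCoh.inD X F ≅ DCoh.toD X E := inDIso F ≪≫ (asIso (DerivedCategory.Q.map q)).symm
  apply flatMod_of_isFlat
  refine @isFlat_of_exact_end _ _ _ X.sheaf _ _ _ _ (E.d (-2) (-1)) (E.d (-1) 0) ε hepi
    (E.d_comp_d _ _ _) hε hex (hfl 0) (fun G => ?_)
  haveI := hL G
  have hz : IsZero (DCoh.HD ((DCoh.LTensorMod G).obj (DCoh.toD X E)) (-1)) :=
    (h G).of_iso ((DerivedCategory.homologyFunctor X.Modules (-1)).mapIso
      ((DCoh.LTensorMod G).mapIso e0.symm))
  exact exact_of_isZero_HD_ltensor' E hK G (-2) (-1) 0 (by norm_num) (by norm_num) hz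

end Scheme

end Groth.Agent.Lib.Helper5.Pure
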