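import Mathlib
import Groth.Agent.Lib.Helper5.KFlatSite2.TorOne

set_option autoImplicit false
set_option linter.unusedSectionVars false
set_option linter.unusedVariables false
set_option linter.style.haveILetI false
universe v u
open CategoryTheory CategoryTheory.Limits HomologicalComplex

namespace Groth.Agent.Lib.Helper5.Pure

open Groth.Agent.Lib.Helper5.TensorSES

section General

variable {𝒜 : Type u} [Category.{v} 𝒜] [Abelian 𝒜]

/-- if `f = h ≫ ι` with `h` epi and `ι` mono then `0 → ker f → A → K → 0` is short exact -/
lemma shortExact_kernel_of_fac {A K B : 𝒜} (f : A ⟶ B) (h : A ⟶ K) (ι : K ⟶ B) [Epi h] [Mono ι]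
    (fac : h ≫ ι = f) :
    (ShortComplex.mk (kernel.ι f) h (by
      rw [← cancel_mono ι, Category.assoc, fac, kernel.condition, zero_comp])).ShortExact where
  exact := ShortComplex.exact_of_f_is_kernel _
    (isKernelOfComp ι f (kernelIsKernel f) _ fac)
  mono_f := inferInstanceAs (Mono (kernel.ι f))
  epi_g := inferInstanceAs (Epi h)

end General

variable {C : Type u} [SmallCategory C] {J : GrothendieckTopology C} {O : Sheaf J CommRingCat.{u}}

/-- the kernel of `A → B` is flat if `A → B → C'` is exact, stays exact after any tensoring, and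
`A`, `B`, `C'` are flat -/
theorem isFlat_kernel_of_exact {A B C' : ModSite.Mod O} (f : A ⟶ B) (g : B ⟶ C') (w : f ≫ g = 0)
    (hex₀ : (ShortComplex.mk f g w).Exact)
    (hA : ModSite.IsFlat A) (hB : ModSite.IsFlat B) (hC : ModSite.IsFlat C')
    (hex : ∀ G : ModSite.Mod O,
      (ShortComplex.mk (((ModSite.tensorBi O).flip.obj G).map f)
        (((ModSite.tensorBi O).flip.obj G).map g)
        (by rw [← Functor.map_comp, w, Functor.map_zero])).Exact) :
    ModSite.IsFlat (kernel f) := by
  -- the cokernel of `g` is flat
  have h1 : ModSite.IsFlat (cokernel g) :=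
    isFlat_of_exact_end f g (cokernel.π g) w (cokernel.condition g)
      (ShortComplex.exact_of_g_is_cokernel _ (cokernelIsCokernel g)) hC hex
  -- the image of `g` is flat
  have h2 : ModSite.IsFlat (Abelian.image g) := by
    let S : ShortComplex (ModSite.Mod O) :=
      ShortComplex.mk (Abelian.image.ι g) (cokernel.π g) (kernel.condition _)
    have hS : S.ShortExact :=
      { exact := ShortComplex.exact_of_f_is_kernel _ (kernelIsKernel (cokernel.π g))
        mono_f := inferInstanceAs (Mono (kernel.ι (cokernel.π g)))
        epi_g := inferInstanceAs (Epi (cokernel.π g)) }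
    exact isFlat_X₁ S hS hC h1
  -- the kernel of `g` is flat
  have h3 : ModSite.IsFlat (kernel g) :=
    isFlat_X₁ _ (shortExact_kernel_of_fac g (Abelian.factorThruImage g) (Abelian.image.ι g)
      (Abelian.image.fac g)) hB h2
  -- the kernel of `f` is flat
  haveI : Epi (kernel.lift g f w) := by
    have := hex₀
    rw [ShortComplex.exact_iff_epi_kernel_lift] at this
    exact this
  exact isFlat_X₁ _ (shortExact_kernel_of_fac f (kernel.lift g f w) (kernel.ι g)
    (kernel.lift_ι _ _ _)) hA h3

end Groth.Agent.Lib.Helper5.Pure
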