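import Mathlib
import Groth.Agent.Lib.Helper5.KFlatSite2.KerFlat
import Groth.Agent.Lib.Helper5.KFlatSite2.TensorUnit
import Groth.Agent.Lib.Helper5.KFlatSite2.Space

set_option autoImplicit false
set_option linter.unusedSectionVars false
set_option linter.unusedVariables false
set_option linter.style.haveILetI false
universe u
open CategoryTheory CategoryTheory.Limits HomologicalComplex AlgebraicGeometry
attribute [local instance] HasDerivedCategory.standard

namespace Groth.Agent.Lib.Helper5.Pure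

open Groth.Agent.Lib.Helper5.TensorSES Groth.Agent.Lib.Helper5.LTM
  Groth.Agent.Lib.Helper5.Misc.KFlatSite Groth.Agent.Lib.Helper5.KFlatSiteQ
  Groth.Agent.Lib.Helper5.TensorUnit

section Site

variable {C : Type u} [SmallCategory C] {J : GrothendieckTopology C} (O : Sheaf J CommRingCat.{u})

/-- exactness after tensoring with the structure sheaf gives exactness -/
lemma exact_of_exact_tensor_unit {A B C' : ModSite.Mod O} (f : A ⟶ B) (g : B ⟶ C')
    (w : f ≫ g = 0)
    (h : (ShortComplex.mk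
      (((ModSite.tensorBi O).flip.obj (ModSite.unit O)).map f)
      (((ModSite.tensorBi O).flip.obj (ModSite.unit O)).map g)
      (by rw [← Functor.map_comp, w, Functor.map_zero])).Exact) :
    (ShortComplex.mk f g w).Exact := by
  refine (ShortComplex.exact_iff_of_iso ?_).1 h
  exact ShortComplex.isoMk (unitIsoApp O A) (unitIsoApp O B) (unitIsoApp O C')
    (unitIsoApp_naturality O f).symm (unitIsoApp_naturality O g).symm


/-- terms of the canonical truncation `τ≤b` of a complex with flat terms which is universally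
exact at `b+1` are flat -/
lemma isFlat_truncLE_X (P : CochainComplex (ModSite.Mod O) ℤ) (b : ℤ)
    (hfl : ∀ i, ModSite.IsFlat (P.X i))
    (hex₀ : (ShortComplex.mk (P.d b (b + 1)) (P.d (b + 1) (b + 2)) (P.d_comp_d _ _ _)).Exact)
    (hex : ∀ G : ModSite.Mod O,
      (ShortComplex.mk (((ModSite.tensorBi O).flip.obj G).map (P.d b (b + 1)))
        (((ModSite.tensorBi O).flip.obj G).map (P.d (b + 1) (b + 2)))
        (by rw [← Functor.map_comp, P.d_comp_d, Functor.map_zero])).Exact) (i : ℤ) :
    ModSite.IsFlat ((P.truncLE b).X i) := by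
  rcases lt_trichotomy i b with h | h | h
  · exact isFlat_of_iso (P.truncLEXIso b i h).symm (hfl i)
  · subst h
    have hk : ModSite.IsFlat (kernel (P.d i (i + 1))) :=
      isFlat_kernel_of_exact (P.d i (i + 1)) (P.d (i + 1) (i + 2)) (P.d_comp_d _ _ _) hex₀
        (hfl _) (hfl _) (hfl _) hex
    have e : P.cycles i ≅ kernel (P.d i (i + 1)) :=
      IsLimit.conePointUniqueUpToIso (P.cyclesIsKernel i (i + 1) (by simp)) (limit.isLimit _)
    exact isFlat_of_iso ((P.truncLEXIsoCycles i) ≪≫ e).symm hk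
  · apply Groth.Agent.S6149.isFlat_of_isZero
    exact (P.truncLE b).isZero_of_isStrictlyLE b i h

/-- terms of the canonical truncation `τ≥a` of a complex with flat terms and flat `coker d^{a-1}`
are flat -/
lemma isFlat_truncGE_X (P : CochainComplex (ModSite.Mod O) ℤ) (a : ℤ)
    (hfl : ∀ i, ModSite.IsFlat (P.X i))
    (hcok : ModSite.IsFlat (cokernel (P.d (a - 1) a))) (i : ℤ) :
    ModSite.IsFlat ((P.truncGE a).X i) := by
  rcases lt_trichotomy i a with h | h | h
  · apply Groth.Agent.S6149.isFlat_of_isZero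
    exact (P.truncGE a).isZero_of_isStrictlyGE a i h
  · subst h
    have e : P.opcycles i ≅ cokernel (P.d (i - 1) i) :=
      IsColimit.coconePointUniqueUpToIso (P.opcyclesIsCokernel (i - 1) i (by simp))
        (colimit.isColimit _)
    exact isFlat_of_iso ((P.truncGEXIsoOpcycles i) ≪≫ e).symm hcok
  · exact isFlat_of_iso (P.truncGEXIso a i h).symm (hfl i)

end Site

variable {X : Scheme.{u}}

/-- tor amplitude is invariant under isomorphism -/
lemma hasTorAmplitudeIn_of_iso {K K' : DCoh.D X} (e : K ≅ K') {a b : ℤ}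
    (h : DCoh.HasTorAmplitudeIn a b K) : DCoh.HasTorAmplitudeIn a b K' :=
  hasTorAmplitudeIn_of_retract e.inv e.hom e.inv_hom_id h


/-- exactness of a K-flat complex tensored with `G` in degrees where `E ⊗^L G` has no cohomology -/
lemma exact_tensor_of_torAmplitude (P : CochainComplex X.Modules ℤ) (hP : DCoh.IsKFlat P)
    (hL : ∀ G : X.Modules, DCoh.HasLTensorMod G) (a b : ℤ)
    (hPt : DCoh.HasTorAmplitudeIn a b (DCoh.toD X P)) (G : X.Modules) (i j k : ℤ)
    (hij : i + 1 = j) (hjk : j + 1 = k) (hj : j < a ∨ b < j) :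
    (ShortComplex.mk (((DCoh.tensorBi (X := X)).flip.obj G).map (P.d i j))
      (((DCoh.tensorBi (X := X)).flip.obj G).map (P.d j k))
      (by rw [← Functor.map_comp, P.d_comp_d, Functor.map_zero])).Exact := by
  haveI := hL G
  exact exact_of_isZero_HD_ltensor' P hP G i j k hij hjk (hPt G j hj)

/-- exactness of a K-flat complex in degrees outside its tor amplitude -/
lemma exactAt_of_torAmplitude (P : CochainComplex X.Modules ℤ) (hP : DCoh.IsKFlat P)
    (hL : ∀ G : X.Modules, DCoh.HasLTensorMod G) (a b : ℤ)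
    (hPt : DCoh.HasTorAmplitudeIn a b (DCoh.toD X P)) (j : ℤ) (hj : j < a ∨ b < j) :
    P.ExactAt j := by
  rw [HomologicalComplex.exactAt_iff' P (j - 1) j (j + 1) (by simp) (by simp)]
  exact exact_of_exact_tensor_unit X.sheaf (P.d (j - 1) j) (P.d j (j + 1)) (P.d_comp_d _ _ _)
    (exact_tensor_of_torAmplitude P hP hL a b hPt (ModSite.unit X.sheaf) (j - 1) j (j + 1)
      (by omega) rfl hj)


/-- every object of `D(O_X)` is represented by a K-flat complex with flat terms -/
lemma exists_kflat_repr (E : DCoh.D X) :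
    ∃ (P : CochainComplex X.Modules ℤ), DCoh.IsKFlat P ∧
      (∀ n : ℤ, ModSite.IsFlat (O := X.sheaf) (P.X n)) ∧ Nonempty (DCoh.toD X P ≅ E) := by
  let E₀ : CochainComplex X.Modules ℤ := DerivedCategory.Q.objPreimage E
  obtain ⟨P, p, hP, hPfl, hp⟩ : ∃ (P : CochainComplex X.Modules ℤ) (p : P ⟶ E₀), DCoh.IsKFlat P ∧
      (∀ n : ℤ, ModSite.IsFlat (O := X.sheaf) (P.X n)) ∧ QuasiIso p := by
    obtain ⟨P, p, hP, hPfl, hp, -⟩ := exists_isKFlat_resolution (O := X.sheaf) E₀
    exact ⟨P, p, hP, hPfl, hp⟩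
  refine ⟨P, hP, hPfl, ⟨?_⟩⟩
  haveI : IsIso (DerivedCategory.Q.map (X := P) (Y := E₀) p) :=
    (DerivedCategory.isIso_Q_map_iff_quasiIso X.Modules p).2 hp
  exact asIso (DerivedCategory.Q.map (X := P) (Y := E₀) p) ≪≫ DerivedCategory.Q.objObjPreimageIso E

open Groth.Agent.Lib.Helper5.Misc.StalkFlatSch in
/-- tor amplitude in `[a, b]` gives a representative by a complex of flat modules in `[a, b]` -/
theorem hasFlatAmplitudeIn_of_hasTorAmplitudeIn (E : DCoh.D X) (a b : ℤ) (hab : a ≤ b)
    (hL : ∀ G : X.Modules, DCoh.HasLTensorMod G) (h : DCoh.HasTorAmplitudeIn a b E) :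
    DCoh.HasFlatAmplitudeIn a b E := by
  obtain ⟨P, hP, hPfl, ⟨eP⟩⟩ := exists_kflat_repr E
  have hPt : DCoh.HasTorAmplitudeIn a b (DCoh.toD X P) := hasTorAmplitudeIn_of_iso eP.symm h
  -- `P` is cohomologically bounded above by `b`
  haveI hPle : P.IsLE b := by
    rw [CochainComplex.isLE_iff]
    intro i hi
    exact exactAt_of_torAmplitude P hP hL a b hPt i (Or.inr hi)
  -- first truncation
  have hP₁fl : ∀ i, ModSite.IsFlat (O := X.sheaf) ((P.truncLE b).X i) := by
    refine isFlat_truncLE_X X.sheaf P b hPfl ?_ (fun G => ?_)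
    · have := exactAt_of_torAmplitude P hP hL a b hPt (b + 1) (Or.inr (by omega))
      rw [HomologicalComplex.exactAt_iff' P b (b + 1) (b + 2) (by simp) (by simp; omega)] at this
      exact this
    · exact exact_tensor_of_torAmplitude P hP hL a b hPt G b (b + 1) (b + 2) rfl (by omega)
        (Or.inr (by omega))
  have hsle : (P.truncLE b).IsStrictlyLE b := inferInstance
  have hP₁ : DCoh.IsKFlat (P.truncLE b) :=
    isKFlat_of_bounded_above (O := X.sheaf) (P.truncLE b) b hsle hP₁fl
  haveI : IsIso (DerivedCategory.Q.map (P.ιTruncLE b)) := by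
    rw [DerivedCategory.isIso_Q_map_iff_quasiIso]; infer_instance
  have e₁ : DCoh.toD X (P.truncLE b) ≅ E := asIso (DerivedCategory.Q.map (P.ιTruncLE b)) ≪≫ eP
  have hP₁t : DCoh.HasTorAmplitudeIn a b (DCoh.toD X (P.truncLE b)) :=
    hasTorAmplitudeIn_of_iso e₁.symm h
  have hcok : FlatMod.IsFlat (cokernel ((P.truncLE b).d (a - 1) a)) :=
    cokernel_flat_of_torAmplitude (P.truncLE b) b hsle
      (fun i => flatMod_of_isFlat _ (hP₁fl i)) hL a b hP₁t
  haveI hP₁ge : (P.truncLE b).IsGE a := by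
    rw [CochainComplex.isGE_iff]
    intro i hi
    exact exactAt_of_torAmplitude (P.truncLE b) hP₁ hL a b hP₁t i (Or.inl hi)
  have hP₂fl : ∀ i, ModSite.IsFlat (O := X.sheaf) (((P.truncLE b).truncGE a).X i) :=
    isFlat_truncGE_X X.sheaf (P.truncLE b) a hP₁fl (isFlat_of_flatMod _ hcok)
  haveI : IsIso (DerivedCategory.Q.map ((P.truncLE b).πTruncGE a)) := by
    rw [DerivedCategory.isIso_Q_map_iff_quasiIso]; infer_instance
  have e₂ : DCoh.toD X ((P.truncLE b).truncGE a) ≅ E :=
    (asIso (DerivedCategory.Q.map ((P.truncLE b).πTruncGE a))).symm ≪≫ e₁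
  refine ⟨(P.truncLE b).truncGE a, ?_, fun i => flatMod_of_isFlat _ (hP₂fl i), ⟨e₂⟩⟩
  rintro i (hi | hi)
  · exact ((P.truncLE b).truncGE a).isZero_of_isStrictlyGE a i hi
  · exact IsZero.of_iso ((P.truncLE b).isZero_of_isStrictlyLE b i hi)
      ((P.truncLE b).truncGEXIso a i (by omega))

/-- tor amplitude (derived tensor form) is equivalent to flat amplitude (representative form) -/
theorem torAmplitude_iff_flatAmplitude (E : DCoh.D X) (a b : ℤ) (hab : a ≤ b)
    (hL : ∀ G : X.Modules, DCoh.HasLTensorMod G) :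
    DCoh.HasTorAmplitudeIn a b E ↔ DCoh.HasFlatAmplitudeIn a b E :=
  ⟨hasFlatAmplitudeIn_of_hasTorAmplitudeIn E a b hab hL, hasTorAmplitudeIn_of_hasFlatAmplitudeIn⟩

end Groth.Agent.Lib.Helper5.Pure
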