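import Mathlib
import Groth.Agent.Lib.Helper5.KFlatSite2.TorAmpD
import Groth.Agent.Lib.Helper5.KFlatSite2.Factor

set_option autoImplicit false
set_option linter.unusedSectionVars false
set_option linter.unusedVariables false
set_option linter.style.haveILetI false
universe u
open CategoryTheory CategoryTheory.Limits HomologicalComplex AlgebraicGeometry Pretriangulated
attribute [local instance] HasDerivedCategory.standard

namespace Groth.Agent.Lib.Helper5.LTM

open Groth.Agent.Lib.Helper5.KFlatSiteQ Groth.Agent.Lib.Helper5.KProj.DerHo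
  Groth.Agent.Lib.Helper5.Misc.KFlatSite

variable {X : Scheme.{u}}

/-- every distinguished triangle of `D(O_X)` is (objectwise) the triangle of a morphism of K-flat
complexes -/
theorem exists_kflat_model (T : Triangle (DCoh.D X)) (hT : T ∈ distTriang (DCoh.D X)) :
    ∃ (P N : CochainComplex X.Modules ℤ) (b : P ⟶ N), DCoh.IsKFlat P ∧ DCoh.IsKFlat N ∧
      Nonempty (T.obj₁ ≅ DCoh.toD X P) ∧ Nonempty (T.obj₂ ≅ DCoh.toD X N) ∧
      Nonempty (T.obj₃ ≅ DCoh.toD X (CochainComplex.mappingCone b)) := by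
  obtain ⟨K, L, φ, ⟨e⟩⟩ := (DerivedCategory.mem_distTriang_iff T).1 hT
  obtain ⟨P, p, hP, _, hp, _⟩ := exists_isKFlat_resolution (O := X.sheaf) K
  obtain ⟨N, b, c, hN, _, hc, hfac⟩ := exists_factor (O := X.sheaf) (p ≫ φ) hP
  have comm : b ≫ c = p ≫ φ := hfac.symm
  let τ := DerivedCategory.Q.mapTriangle.map (CochainComplex.mappingCone.triangleMap b φ p c comm)
  haveI h1 : IsIso τ.hom₁ := by
    show IsIso (DerivedCategory.Q.map p)
    exact (DerivedCategory.isIso_Q_map_iff_quasiIso X.Modules p).2 hp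
  haveI h2 : IsIso τ.hom₂ := by
    show IsIso (DerivedCategory.Q.map c)
    exact (DerivedCategory.isIso_Q_map_iff_quasiIso X.Modules c).2 hc
  haveI h3 : IsIso τ.hom₃ := isIso₃_of_isIso₁₂ τ
    (DerivedCategory.mappingCone_triangle_distinguished b)
    (DerivedCategory.mappingCone_triangle_distinguished φ) h1 h2
  refine ⟨P, N, b, hP, hN, ⟨?_⟩, ⟨?_⟩, ⟨?_⟩⟩
  · exact Triangle.π₁.mapIso e ≪≫ (asIso τ.hom₁).symm
  · exact Triangle.π₂.mapIso e ≪≫ (asIso τ.hom₂).symm
  · exact Triangle.π₃.mapIso e ≪≫ (asIso τ.hom₃).symm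

/-- two-out-of-three (middle term) for the vanishing of the cohomology of `- ⊗^L F` -/
theorem isZero_HD_ltensor_obj₂ (T : Triangle (DCoh.D X)) (hT : T ∈ distTriang (DCoh.D X))
    (F : X.Modules) [DCoh.HasLTensorMod F] (i : ℤ)
    (h1 : IsZero (DCoh.HD ((DCoh.LTensorMod F).obj T.obj₁) i))
    (h3 : IsZero (DCoh.HD ((DCoh.LTensorMod F).obj T.obj₃) i)) :
    IsZero (DCoh.HD ((DCoh.LTensorMod F).obj T.obj₂) i) := by
  obtain ⟨P, N, b, hP, hN, ⟨e1⟩, ⟨e2⟩, ⟨e3⟩⟩ := exists_kflat_model T hT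
  have hC : DCoh.IsKFlat (CochainComplex.mappingCone b) :=
    (isKFlat_cone_two_of_three (O := X.sheaf) b).1 hP hN
  let G := DCoh.tensorRightMod F
  let Gc := G.mapHomologicalComplex (ComplexShape.up ℤ)
  let i1 : (DCoh.LTensorMod F).obj T.obj₁ ≅ DerivedCategory.Q.obj (Gc.obj P) :=
    (DCoh.LTensorMod F).mapIso e1 ≪≫ ltensorModObjIso F P hP
  let i2 : (DCoh.LTensorMod F).obj T.obj₂ ≅ DerivedCategory.Q.obj (Gc.obj N) :=
    (DCoh.LTensorMod F).mapIso e2 ≪≫ ltensorModObjIso F N hN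
  let i3 : (DCoh.LTensorMod F).obj T.obj₃ ≅
      DerivedCategory.Q.obj (CochainComplex.mappingCone (Gc.map b)) :=
    (DCoh.LTensorMod F).mapIso e3 ≪≫ ltensorModObjIso F _ hC ≪≫
      DerivedCategory.Q.mapIso (CochainComplex.mappingCone.mapHomologicalComplexIso b G)
  have hT' := DerivedCategory.mappingCone_triangle_distinguished (Gc.map b)
  have hS := (DerivedCategory.homologyFunctor X.Modules i).map_distinguished_exact _ hT'
  have z1 : IsZero (((DerivedCategory.homologyFunctor X.Modules i).obj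
      (DerivedCategory.Q.obj (Gc.obj P)))) :=
    h1.of_iso ((DerivedCategory.homologyFunctor X.Modules i).mapIso i1.symm)
  have z3 : IsZero (((DerivedCategory.homologyFunctor X.Modules i).obj
      (DerivedCategory.Q.obj (CochainComplex.mappingCone (Gc.map b))))) :=
    h3.of_iso ((DerivedCategory.homologyFunctor X.Modules i).mapIso i3.symm)
  have z2 := hS.isZero_of_both_zeros (z1.eq_of_src _ _) (z3.eq_of_tgt _ _)
  exact IsZero.of_iso z2 ((DerivedCategory.homologyFunctor X.Modules i).mapIso i2)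

/-- flat amplitude and shifts -/
theorem hasFlatAmplitudeIn_shift {K : DCoh.D X} {a b : ℤ} (h : DCoh.HasFlatAmplitudeIn a b K)
    (n a' b' : ℤ) (ha : a' = a - n) (hb : b' = b - n) :
    DCoh.HasFlatAmplitudeIn a' b' (K⟦n⟧) := by
  obtain ⟨E, hE, hfl, ⟨e⟩⟩ := h
  refine ⟨E⟦n⟧, ?_, ?_, ⟨?_⟩⟩
  · intro i hi
    exact hE (i + n) (by omega)
  · intro i
    exact hfl (i + n)
  · exact (DerivedCategory.Q.commShiftIso n).app E ≪≫ (shiftFunctor (DCoh.D X) n).mapIso e

/-- tor amplitude of the middle term of a distinguished triangle -/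
theorem hasTorAmplitudeIn_obj₂ (T : Triangle (DCoh.D X)) (hT : T ∈ distTriang (DCoh.D X))
    {a b : ℤ} (h1 : DCoh.HasTorAmplitudeIn a b T.obj₁) (h3 : DCoh.HasTorAmplitudeIn a b T.obj₃) :
    DCoh.HasTorAmplitudeIn a b T.obj₂ := by
  intro F _ i hi
  exact isZero_HD_ltensor_obj₂ T hT F i (h1 F i hi) (h3 F i hi)

theorem torAmplitude_triangle (T : Triangle (DCoh.D X)) (hT : T ∈ distTriang (DCoh.D X))
    (a b : ℤ) :
    (DCoh.HasFlatAmplitudeIn (a + 1) (b + 1) T.obj₁ → DCoh.HasFlatAmplitudeIn a b T.obj₂ →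
      DCoh.HasTorAmplitudeIn a b T.obj₃) ∧
    (DCoh.HasFlatAmplitudeIn a b T.obj₁ → DCoh.HasFlatAmplitudeIn a b T.obj₃ →
      DCoh.HasTorAmplitudeIn a b T.obj₂) ∧
    (DCoh.HasFlatAmplitudeIn (a + 1) (b + 1) T.obj₂ → DCoh.HasFlatAmplitudeIn a b T.obj₃ →
      DCoh.HasTorAmplitudeIn (a + 1) (b + 1) T.obj₁) := by
  refine ⟨fun h1 h2 => ?_, fun h1 h3 => ?_, fun h2 h3 => ?_⟩
  · exact hasTorAmplitudeIn_obj₂ T.rotate (rot_of_distTriang _ hT)
      (hasTorAmplitudeIn_of_hasFlatAmplitudeIn h2)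
      (hasTorAmplitudeIn_of_hasFlatAmplitudeIn
        (hasFlatAmplitudeIn_shift h1 1 a b (by omega) (by omega)))
  · exact hasTorAmplitudeIn_obj₂ T hT (hasTorAmplitudeIn_of_hasFlatAmplitudeIn h1)
      (hasTorAmplitudeIn_of_hasFlatAmplitudeIn h3)
  · exact hasTorAmplitudeIn_obj₂ T.invRotate (inv_rot_of_distTriang _ hT)
      (hasTorAmplitudeIn_of_hasFlatAmplitudeIn
        (hasFlatAmplitudeIn_shift h3 (-1) (a + 1) (b + 1) (by omega) (by omega)))
      (hasTorAmplitudeIn_of_hasFlatAmplitudeIn h2)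

end Groth.Agent.Lib.Helper5.LTM
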